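import Mathlib
import Cfsg.Agent.S1350
import Cfsg.Agent.S1355
import Cfsg.Agent.Helper22.Generation
import Cfsg.Agent.Helper23.Trans

/-!
# CALL BG36 (row S1436) piece T5 (helper67).
-/

set_option autoImplicit false

namespace Cfsg.Agent.Helper67

open Cfsg Subgroup

universe u

variable {G : Type u} [Group G] [Finite G]

/-- PIECE T5 (step 2): if every element of order `q` of `M` acts fixed-point-freely on `M_σ`, then
`q ∉ τ₂(M)`. -/
theorem bg36_step2 (hG : IsMinSimpleOddOrder G) {M : Subgroup G} (hM : IsCoatom M) {q : ℕ}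
    (hqσ : q ∉ sigma M)
    (hreg : ∀ z ∈ M, orderOf z = q → sigmaCore M ⊓ centralizer ({z} : Set G) = ⊥) :
    q ∉ tau2 M := by
  rintro ⟨hqp, -, -, hrank⟩
  haveI : Fact q.Prime := ⟨hqp⟩
  unfold PRankLE at hrank
  push Not at hrank
  obtain ⟨A, hAc, hAq, hAcard⟩ := hrank
  rw [pow_one] at hAcard
  have hAne : A ≠ ⊥ := by
    intro h
    rw [h, Subgroup.card_bot] at hAcard
    have h2 := hqp.two_le
    omega
  rw [Ne, Subgroup.eq_bot_iff_forall] at hAne
  push Not at hAne
  obtain ⟨a, haA, ha1⟩ := hAne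
  have haq : a ^ q = 1 := hAq a haA
  have hoa : orderOf a = q := orderOf_eq_prime haq ha1
  have hzle : zpowers a ≤ A := by
    rw [Subgroup.zpowers_le]
    exact haA
  have hzne : zpowers a ≠ A := by
    intro h
    have h2 : Nat.card (zpowers a) = Nat.card A := by rw [h]
    rw [Nat.card_zpowers, hoa] at h2
    omega
  obtain ⟨b, hbA, hbz⟩ := SetLike.exists_of_lt (lt_of_le_of_ne hzle hzne)
  have hbq : b ^ q = 1 := hAq b hbA
  have hab : a * b = b * a := by
    have h := (IsMulCommutative.is_comm (M := ↥A)).comm ⟨a, haA⟩ ⟨b, hbA⟩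
    exact congrArg Subtype.val h
  have habG : (a : G) * (b : G) = (b : G) * (a : G) := congrArg Subtype.val hab
  have haG : (a : G) ^ q = 1 := congrArg Subtype.val haq
  have hbG : (b : G) ^ q = 1 := congrArg Subtype.val hbq
  have hX : sigmaCore M ≤ M := Subgroup.map_subtype_le _
  have hXsolv : Group.IsSolvable ↥(sigmaCore M) := hG.2.2.2 _ (by
    intro h
    apply hM.1
    rw [eq_top_iff, ← h]
    exact hX)
  have hXq : ¬ q ∣ Nat.card (sigmaCore M) := fun h =>
    hqσ ((Cfsg.Agent.S1350.result hG M hM).1.2.1 q hqp h)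
  have hnorm : M ≤ normalizer (sigmaCore M : Set G) :=
    Cfsg.Agent.Helper23.le_normalizer_piCoreOf (sigma M) M
  have hord : ∀ z : ↥M, z ^ q = 1 → z ≠ 1 →
      sigmaCore M ⊓ centralizer ({(z : G)} : Set G) = ⊥ := by
    intro z hzq hz1
    apply hreg _ z.2
    have h1 : orderOf z = q := orderOf_eq_prime hzq hz1
    rw [← h1]
    exact Subgroup.orderOf_coe z
  have hk : ∀ k : ℕ, sigmaCore M ⊓ centralizer ({(a : G) ^ k * (b : G)} : Set G) ≤ ⊥ := by
    intro k
    have hcomm : Commute (a ^ k) b := (show Commute a b from hab).pow_left k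
    have h1 : (a ^ k * b) ^ q = 1 := by
      rw [hcomm.mul_pow, hbq, mul_one, ← pow_mul, mul_comm, pow_mul, haq, one_pow]
    have h2 : a ^ k * b ≠ 1 := by
      intro h
      apply hbz
      have h3 : b = (a ^ k)⁻¹ := eq_inv_of_mul_eq_one_right h
      rw [h3]
      exact inv_mem (pow_mem (mem_zpowers a) k)
    exact le_of_eq (hord (a ^ k * b) h1 h2)
  have hle := Cfsg.Agent.Helper22.le_of_centralizer_le_of_commuting q (a : G) (b : G) habG haG hbG
    ⊥ (Nat.card (sigmaCore M)) (sigmaCore M) le_rfl hXsolv hXq (hnorm a.2) (hnorm b.2)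
    (le_of_eq (hord a haq ha1)) hk
  have h55 := Cfsg.Agent.S1355.result hG M hM
  exact h55.1 (le_bot_iff.mp (h55.2.1.trans hle))

end Cfsg.Agent.Helper67
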