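import Mathlib
import Cfsg.Agent.Helper52.U7920Defs

/-!
# CALL S0435 piece TI2: the centraliser of a nontrivial 3-element has order `9 * 2 ^ b`
-/

set_option autoImplicit false
set_option linter.unusedSectionVars false

namespace Cfsg.Agent.Helper67

open Cfsg.Agent.Helper52

variable {G : Type*} [Group G] [Finite G]

-- PIECE TI2
theorem u7920_cent3 (h : U7920Hyp G) (R : Sylow 3 G) (d : G) (hd : d ∈ (R : Subgroup G))
    (hd1 : d ≠ 1) :
    ∃ b, b ≤ 4 ∧ Nat.card ↥(Subgroup.centralizer ({d} : Set G)) = 9 * 2 ^ b := by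
  obtain ⟨hR9, hRab⟩ := h.syl3 R
  have hle : (R : Subgroup G) ≤ Subgroup.centralizer ({d} : Set G) := by
    intro x hx
    rw [Subgroup.mem_centralizer_iff]
    intro y hy
    rw [Set.mem_singleton_iff] at hy
    subst hy
    exact hRab y hd x hx
  have h9 : 9 ∣ Nat.card ↥(Subgroup.centralizer ({d} : Set G)) := by
    rw [← hR9]; exact Subgroup.card_dvd_of_le hle
  have hdvd : Nat.card ↥(Subgroup.centralizer ({d} : Set G)) ∣ 7920 := by
    rw [← h.card]; exact Subgroup.card_subgroup_dvd_card _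
  have hord : orderOf d ∣ 9 := by
    have h1 := Subgroup.orderOf_dvd_natCard (R : Subgroup G) hd
    rwa [hR9] at h1
  have ho11 : orderOf d ≠ 11 := by
    intro h11
    rw [h11] at hord
    omega
  have hdd : d * d ≠ 1 := by
    intro hdd
    have h2 : orderOf d ∣ 2 := orderOf_dvd_of_pow_eq_one (by rw [pow_two]; exact hdd)
    have h1 : orderOf d ∣ Nat.gcd 2 9 := Nat.dvd_gcd h2 hord
    have h3 : orderOf d = 1 := Nat.dvd_one.mp (by simpa using h1)
    exact hd1 (orderOf_eq_one_iff.mp h3)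
  have ho5 : ¬ 5 ∣ orderOf d := by
    intro h5
    have h1 := dvd_trans h5 hord
    omega
  have h11 := h.l11 d hd1 ho11
  have h5 := h.l5 d hdd ho5
  obtain ⟨m, hm⟩ := h9
  rw [hm] at hdvd h5 h11 ⊢
  have hm880 : m ∣ 880 := by
    have h1 : 9 * m ∣ 9 * 880 := by simpa using hdvd
    exact (Nat.mul_dvd_mul_iff_left (by norm_num)).mp h1
  have h5m : ¬ 5 ∣ m := fun hh => h5 (dvd_mul_of_dvd_right hh 9)
  have h11m : ¬ 11 ∣ m := fun hh => h11 (dvd_mul_of_dvd_right hh 9)
  have hcop : Nat.Coprime m 55 := by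
    have c5 : Nat.Coprime 5 m := (Nat.Prime.coprime_iff_not_dvd (by norm_num)).mpr h5m
    have c11 : Nat.Coprime 11 m := (Nat.Prime.coprime_iff_not_dvd (by norm_num)).mpr h11m
    exact (Nat.Coprime.mul_left c5 c11).symm
  have hm16 : m ∣ 2 ^ 4 := by
    have h1 : m ∣ 16 * 55 := by simpa using hm880
    have h2 := Nat.Coprime.dvd_of_dvd_mul_right hcop h1
    simpa using h2
  obtain ⟨b, hb, rfl⟩ := (Nat.dvd_prime_pow Nat.prime_two).mp hm16
  exact ⟨b, hb, rfl⟩

end Cfsg.Agent.Helper67
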