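import Mathlib

/-!
# CALL S0435 piece TI6b: the set of `d ∈ R` lying in four Sylow 3-subgroups is a union of
`N(R)`-classes
-/

set_option autoImplicit false
set_option linter.unusedSectionVars false

namespace Cfsg.Agent.Helper67

variable {G : Type*} [Group G] [Finite G]

-- PIECE TI6b
theorem u7920_four_dvd (R : Sylow 3 G)
    (hconj : ∀ g d : G, Nat.card {S : Sylow 3 G // g * d * g⁻¹ ∈ (S : Subgroup G)} =
      Nat.card {S : Sylow 3 G // d ∈ (S : Subgroup G)})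
    (horb : ∀ d ∈ (R : Subgroup G), Nat.card {S : Sylow 3 G // d ∈ (S : Subgroup G)} = 4 →
      4 ∣ Nat.card {e : G // ∃ n ∈ Subgroup.normalizer ((R : Subgroup G) : Set G),
        e = n * d * n⁻¹}) :
    4 ∣ Nat.card {d : G // d ∈ (R : Subgroup G) ∧
      Nat.card {S : Sylow 3 G // d ∈ (S : Subgroup G)} = 4} := by
  classical
  obtain ⟨N, hN⟩ : ∃ N : Subgroup G, N = Subgroup.normalizer ((R : Subgroup G) : Set G) :=
    ⟨_, rfl⟩
  rw [← hN] at horb
  obtain ⟨s, hs⟩ : ∃ s : Setoid {d : G // d ∈ (R : Subgroup G) ∧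
      Nat.card {S : Sylow 3 G // d ∈ (S : Subgroup G)} = 4},
      ∀ a b, s.r a b ↔ ∃ n ∈ N, (b : G) = n * (a : G) * n⁻¹ :=
    ⟨{ r := fun a b => ∃ n ∈ N, (b : G) = n * (a : G) * n⁻¹
       iseqv := ⟨fun a => ⟨1, one_mem _, by simp⟩,
         fun {a b} ⟨n, hn, h⟩ => ⟨n⁻¹, inv_mem hn, by rw [h]; group⟩,
         fun {a b c} ⟨n, hn, h⟩ ⟨m, hm, h'⟩ => ⟨m * n, mul_mem hm hn, by rw [h', h]; group⟩⟩ },
      fun _ _ => Iff.rfl⟩
  have : Fintype (Quotient s) := Fintype.ofFinite _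
  rw [Nat.card_congr (Equiv.sigmaFiberEquiv (Quotient.mk s)).symm, Nat.card_sigma]
  apply Finset.dvd_sum
  intro q _
  induction q using Quotient.inductionOn with
  | _ a =>
  have hmem : ∀ e : G, (∃ n ∈ N, e = n * (a : G) * n⁻¹) →
      e ∈ (R : Subgroup G) ∧ Nat.card {S : Sylow 3 G // e ∈ (S : Subgroup G)} = 4 := by
    rintro e ⟨n, hn, rfl⟩
    rw [hN] at hn
    exact ⟨(Subgroup.mem_normalizer_iff.mp hn (a : G)).mp a.2.1, by rw [hconj]; exact a.2.2⟩
  have hequiv : {b : {d : G // d ∈ (R : Subgroup G) ∧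
        Nat.card {S : Sylow 3 G // d ∈ (S : Subgroup G)} = 4} //
        Quotient.mk s b = Quotient.mk s a} ≃ {e : G // ∃ n ∈ N, e = n * (a : G) * n⁻¹} :=
    { toFun := fun b => ⟨(b.1 : G), (hs a b.1).mp (Setoid.symm (Quotient.exact b.2))⟩
      invFun := fun e => ⟨⟨e.1, hmem e.1 e.2⟩,
        Quotient.sound (Setoid.symm ((hs a ⟨e.1, hmem e.1 e.2⟩).mpr e.2))⟩
      left_inv := fun b => rfl
      right_inv := fun e => rfl }
  rw [Nat.card_congr hequiv]
  exact horb (a : G) a.2.1 a.2.2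

end Cfsg.Agent.Helper67
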