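import Mathlib
import Cfsg.Agent.Helper48.M11UGeo

set_option autoImplicit false
set_option linter.unusedSectionVars false
set_option linter.unusedVariables false
open scoped Pointwise

/-!
CALL S0420 stage 2 (helper48), piece NBR (helper67): the neighbours of `R`, given one triangle.
-/

namespace Cfsg.Agent.Helper67
open Cfsg.Agent.Helper48.M11U

universe u
variable {G : Type u} [Group G] [Finite G]

theorem m11u_nbr (h : M11Geo G) (z : G) (R S T U : Sylow 3 G) (hz : orderOf z = 2)
    (h1 : Inv z R) (h2 : Inv z S) (h3 : Inv z T) (hRS : R ≠ S) (hRT : R ≠ T) (hST : S ≠ T)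
    (hU : Adj R U) : ∃ r ∈ (R : Subgroup G), U = r • S ∨ U = r • T := by
  obtain ⟨hRU, z', hz', hz'R, hz'U⟩ := hU
  obtain ⟨r, hr, hzr⟩ := h.l1.orbI R z z' hz hz' h1 hz'R
  refine ⟨r, hr, ?_⟩
  have hrR : r • R = R := by
    rw [smul_eq_iff]
    exact Subgroup.le_normalizer hr
  have i2 : Inv z' (r • S) := by rw [hzr]; exact inv_conj h2 r
  have i3 : Inv z' (r • T) := by rw [hzr]; exact inv_conj h3 r
  have hcard : Set.ncard {P : Sylow 3 G | Inv z' P} = 3 := by
    rw [← Nat.card_coe_set_eq]
    exact h.l1.tri z' hz'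
  by_contra hcon
  push Not at hcon
  have e1 : r • S ≠ r • T := fun e => hST (smul_left_cancel r e)
  have e2 : R ≠ r • S := fun e => hRS (smul_left_cancel r (hrR.trans e))
  have e3 : R ≠ r • T := fun e => hRT (smul_left_cancel r (hrR.trans e))
  have h4 : ({U, R, r • S, r • T} : Set (Sylow 3 G)).ncard = 4 := by
    rw [Set.ncard_insert_of_notMem, Set.ncard_insert_of_notMem, Set.ncard_pair e1]
    · simp only [Set.mem_insert_iff, Set.mem_singleton_iff, not_or]
      exact ⟨e2, e3⟩
    · simp only [Set.mem_insert_iff, Set.mem_singleton_iff, not_or]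
      exact ⟨fun e => hRU e.symm, hcon.1, hcon.2⟩
  have hsub : ({U, R, r • S, r • T} : Set (Sylow 3 G)) ⊆ {P : Sylow 3 G | Inv z' P} := by
    intro P hP
    simp only [Set.mem_insert_iff, Set.mem_singleton_iff] at hP
    rcases hP with rfl | rfl | rfl | rfl
    · exact hz'U
    · exact hz'R
    · exact i2
    · exact i3
  have hle := Set.ncard_le_ncard hsub (Set.toFinite _)
  omega

end Cfsg.Agent.Helper67
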