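import Mathlib

set_option autoImplicit false

/-!
Piece BURN of CALL S1158 (helper6): counting the fixed-point-free elements of a transitive
permutation group in which three-point stabilisers have order at most two.
-/

namespace Cfsg.Agent.Helper67

open scoped Classical in
theorem card_fixedPointFree_aux {G : Type*} [Group G] [Fintype G] {Ω : Type*} [Fintype Ω]
    [MulAction G Ω] [MulAction.IsPretransitive G Ω] [Nonempty Ω]
    (h f j : ℕ) (hf : 3 ≤ f)
    (h3 : ∀ x y z : Ω, x ≠ y → x ≠ z → y ≠ z → ∀ g : G, g • x = x → g • y = y → g • z = z →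
      g * g = 1)
    (h2 : ∀ x y : Ω, x ≠ y →
      (Finset.univ.filter (fun g : G => g • x = x ∧ g • y = y)).card = h)
    (h2e : ∀ x y : Ω, x ≠ y → ∃ t : G, t • x = x ∧ t • y = y ∧ t ≠ 1 ∧ t * t = 1)
    (h2u : ∀ x y : Ω, x ≠ y → ∀ t t' : G, t • x = x → t • y = y → t' • x = x → t' • y = y →
      t ≠ 1 → t * t = 1 → t' ≠ 1 → t' * t' = 1 → t = t')
    (hJ : (Finset.univ.filter (fun g : G => g ≠ 1 ∧ g * g = 1)).card = j)
    (hJf : ∀ g : G, g ≠ 1 → g * g = 1 →
      (Finset.univ.filter (fun ω : Ω => g • ω = ω)).card = f) :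
    2 * (Finset.univ.filter (fun g : G => ∀ ω : Ω, g • ω ≠ ω)).card + 2 =
      Fintype.card Ω * (Fintype.card Ω - 1) * (h - 2) + 2 * (f - 1) * j
        + 2 * Fintype.card Ω := by
  obtain ⟨φ, hφ⟩ : ∃ φ : G → ℕ,
      φ = fun g => (Finset.univ.filter (fun ω : Ω => g • ω = ω)).card := ⟨_, rfl⟩
  obtain ⟨J, hJdef⟩ : ∃ J : Finset G,
      J = Finset.univ.filter (fun g : G => g ≠ 1 ∧ g * g = 1) := ⟨_, rfl⟩
  obtain ⟨A, hAdef⟩ : ∃ A : Finset G,
      A = Finset.univ.filter (fun g : G => g ≠ 1 ∧ g * g ≠ 1) := ⟨_, rfl⟩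
  have hN : 0 < Fintype.card Ω := Fintype.card_pos
  have hmemJ : ∀ g : G, g ∈ J ↔ g ≠ 1 ∧ g * g = 1 := by
    intro g; rw [hJdef]; simp
  have hmemA : ∀ g : G, g ∈ A ↔ g ≠ 1 ∧ g * g ≠ 1 := by
    intro g; rw [hAdef]; simp
  -- splitting sums over G
  have hsplit : ∀ F : G → ℕ, ∑ g, F g = F 1 + ∑ g ∈ J, F g + ∑ g ∈ A, F g := by
    intro F
    have e1 := Finset.sum_filter_add_sum_filter_not (Finset.univ : Finset G) (fun g => g = 1) F
    have e2 := Finset.sum_filter_add_sum_filter_not
      (Finset.univ.filter (fun g : G => ¬ g = 1)) (fun g => g * g = 1) F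
    rw [Finset.filter_filter, Finset.filter_filter] at e2
    have e3 : Finset.univ.filter (fun g : G => g = 1) = {1} := by ext g; simp
    rw [e3, Finset.sum_singleton] at e1
    have e4 : Finset.univ.filter (fun g : G => ¬ g = 1 ∧ g * g = 1) = J := by
      ext g; rw [hmemJ]; simp
    have e5 : Finset.univ.filter (fun g : G => ¬ g = 1 ∧ ¬ g * g = 1) = A := by
      ext g; rw [hmemA]; simp
    rw [e4, e5] at e2
    rw [← e1, ← e2, add_assoc]
  -- Burnside
  have hburn : ∑ g : G, φ g = Fintype.card G := by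
    have hb := MulAction.sum_card_fixedBy_eq_card_orbits_mul_card_group G Ω
    have hsub : Subsingleton (MulAction.orbitRel.Quotient G Ω) :=
      (MulAction.pretransitive_iff_subsingleton_quotient G Ω).mp inferInstance
    have hone : Fintype.card (Quotient (MulAction.orbitRel G Ω)) = 1 := by
      have hne : Nonempty (Quotient (MulAction.orbitRel G Ω)) :=
        ⟨Quotient.mk _ (Classical.arbitrary Ω)⟩
      exact Fintype.card_eq_one_iff_nonempty_unique.mpr
        ⟨@Unique.mk' _ ⟨Classical.arbitrary _⟩ hsub⟩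
    rw [hone, one_mul] at hb
    rw [← hb, hφ]
    apply Finset.sum_congr rfl
    intro g _
    rw [Fintype.card_subtype]
    apply congrArg Finset.card
    ext ω
    simp [MulAction.mem_fixedBy]
  have hφ1 : φ 1 = Fintype.card Ω := by
    rw [hφ]
    simp
  have hφJ : ∀ g ∈ J, φ g = f := by
    intro g hg
    rw [hmemJ] at hg
    rw [hφ]
    exact hJf g hg.1 hg.2
  have hφA : ∀ g ∈ A, φ g ≤ 2 := by
    intro g hg
    rw [hmemA] at hg
    by_contra hlt
    push Not at hlt
    rw [hφ] at hlt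
    obtain ⟨x, hx, y, hy, z, hz, hxy, hxz, hyz⟩ := Finset.two_lt_card.mp hlt
    simp only [Finset.mem_filter, Finset.mem_univ, true_and] at hx hy hz
    exact hg.2 (h3 x y z hxy hxz hyz g hx hy hz)
  -- the counts
  have hcountG : Fintype.card G = 1 + j + A.card := by
    have := hsplit (fun _ => 1)
    simp only [Finset.sum_const, Finset.card_univ, smul_eq_mul, mul_one] at this
    rw [this, ← hJ, ← hJdef]
  have hS1 : Fintype.card Ω + f * j + ∑ g ∈ A, φ g = Fintype.card G := by
    rw [← hburn, hsplit φ, hφ1, Finset.sum_congr rfl hφJ, Finset.sum_const, smul_eq_mul,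
      ← hJ, ← hJdef, mul_comm]
  -- the second moment
  have hS2 : ∑ g ∈ A, φ g * (φ g - 1) = Fintype.card Ω * (Fintype.card Ω - 1) * (h - 2) := by
    have hdc := Finset.sum_card_bipartiteAbove_eq_sum_card_bipartiteBelow
      (fun (g : G) (p : Ω × Ω) => g • p.1 = p.1 ∧ g • p.2 = p.2) (s := A)
      (t := (Finset.univ : Finset Ω).offDiag)
    have hleft : ∀ g ∈ A, (Finset.bipartiteAbove
        (fun (g : G) (p : Ω × Ω) => g • p.1 = p.1 ∧ g • p.2 = p.2)
        ((Finset.univ : Finset Ω).offDiag) g).card = φ g * (φ g - 1) := by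
      intro g _
      have e : Finset.bipartiteAbove
          (fun (g : G) (p : Ω × Ω) => g • p.1 = p.1 ∧ g • p.2 = p.2)
          ((Finset.univ : Finset Ω).offDiag) g
          = (Finset.univ.filter (fun ω : Ω => g • ω = ω)).offDiag := by
        ext p
        simp only [Finset.bipartiteAbove, Finset.mem_filter, Finset.mem_offDiag, Finset.mem_univ,
          true_and]
        tauto
      rw [e, Finset.offDiag_card, hφ, Nat.mul_sub_one]
    have hright : ∀ p ∈ (Finset.univ : Finset Ω).offDiag, (Finset.bipartiteBelow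
        (fun (g : G) (p : Ω × Ω) => g • p.1 = p.1 ∧ g • p.2 = p.2) A p).card = h - 2 := by
      intro p hp
      have hne : p.1 ≠ p.2 := by
        rw [Finset.mem_offDiag] at hp
        exact hp.2.2
      obtain ⟨t, ht1, ht2, ht3, ht4⟩ := h2e p.1 p.2 hne
      have e : Finset.bipartiteBelow
          (fun (g : G) (p : Ω × Ω) => g • p.1 = p.1 ∧ g • p.2 = p.2) A p
          = ((Finset.univ.filter (fun g : G => g • p.1 = p.1 ∧ g • p.2 = p.2)).erase 1).erase t := by
        ext g
        simp only [Finset.bipartiteBelow, Finset.mem_filter, Finset.mem_erase, Finset.mem_univ,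
          true_and, hmemA]
        constructor
        · rintro ⟨⟨hg1, hg2⟩, hg3, hg4⟩
          refine ⟨?_, hg1, hg3, hg4⟩
          intro hgt
          rw [hgt] at hg2
          exact hg2 ht4
        · rintro ⟨hgt, hg1, hg3, hg4⟩
          refine ⟨⟨hg1, ?_⟩, hg3, hg4⟩
          intro hgg
          exact hgt (h2u p.1 p.2 hne g t hg3 hg4 ht1 ht2 hg1 hgg ht3 ht4)
      have hc1 : (1 : G) ∈ Finset.univ.filter (fun g : G => g • p.1 = p.1 ∧ g • p.2 = p.2) := by
        simp
      have hc2 : t ∈ (Finset.univ.filter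
          (fun g : G => g • p.1 = p.1 ∧ g • p.2 = p.2)).erase 1 := by
        rw [Finset.mem_erase, Finset.mem_filter]
        exact ⟨ht3, Finset.mem_univ _, ht1, ht2⟩
      rw [e, Finset.card_erase_of_mem hc2, Finset.card_erase_of_mem hc1, h2 p.1 p.2 hne]
      omega
    rw [Finset.sum_congr rfl hleft, Finset.sum_congr rfl hright, Finset.sum_const,
      Finset.offDiag_card, Finset.card_univ, smul_eq_mul] at hdc
    rw [hdc, Nat.mul_sub_one]
  -- pointwise identity
  have hpt : ∀ g ∈ A, 2 * (if φ g = 0 then 1 else 0) + 2 * φ g = 2 + φ g * (φ g - 1) := by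
    intro g hg
    have h1 := hφA g hg
    interval_cases (φ g) <;> simp
  have hsum : 2 * (A.filter (fun g => φ g = 0)).card + 2 * ∑ g ∈ A, φ g
      = 2 * A.card + ∑ g ∈ A, φ g * (φ g - 1) := by
    have h1 := Finset.sum_congr (rfl : A = A) hpt
    rw [Finset.sum_add_distrib, Finset.sum_add_distrib, ← Finset.mul_sum, ← Finset.mul_sum,
      Finset.sum_const, smul_eq_mul, Finset.sum_boole] at h1
    simp only [Nat.cast_id] at h1
    rw [h1, mul_comm]
  -- the fixed-point-free elements
  have hfpf : Finset.univ.filter (fun g : G => ∀ ω : Ω, g • ω ≠ ω)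
      = A.filter (fun g => φ g = 0) := by
    ext g
    simp only [Finset.mem_filter, Finset.mem_univ, true_and]
    have hiff : (∀ ω : Ω, g • ω ≠ ω) ↔ φ g = 0 := by
      rw [hφ]
      simp only [Finset.card_eq_zero, Finset.filter_eq_empty_iff, Finset.mem_univ, forall_true_left]
    rw [hiff]
    constructor
    · intro h0
      refine ⟨?_, h0⟩
      rw [hmemA]
      constructor
      · intro h1
        rw [h1, hφ1] at h0
        omega
      · intro h1
        by_cases hg1 : g = 1
        · rw [hg1, hφ1] at h0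
          omega
        · have := hφJ g ((hmemJ g).mpr ⟨hg1, h1⟩)
          omega
    · intro h0
      exact h0.2
  rw [hfpf, hS2] at *
  have hfj : 2 * (f - 1) * j + 2 * j = 2 * (f * j) := by
    obtain ⟨f', rfl⟩ : ∃ f', f = f' + 1 := ⟨f - 1, by omega⟩
    simp only [Nat.add_sub_cancel]
    ring
  omega

theorem card_fixedPointFree {G : Type*} [Group G] [Finite G] (B : Subgroup G) (h f j : ℕ)
    (hf : 3 ≤ f)
    (h3 : ∀ x y z : G ⧸ B, x ≠ y → x ≠ z → y ≠ z →
      Nat.card ↥(MulAction.stabilizer G x ⊓ MulAction.stabilizer G y ⊓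
        MulAction.stabilizer G z) ≤ 2)
    (h2 : ∀ x y : G ⧸ B, x ≠ y →
      Nat.card ↥(MulAction.stabilizer G x ⊓ MulAction.stabilizer G y) = h)
    (h2e : ∀ x y : G ⧸ B, x ≠ y →
      ∃ t ∈ MulAction.stabilizer G x ⊓ MulAction.stabilizer G y, t ≠ 1 ∧ t * t = 1)
    (h2u : ∀ x y : G ⧸ B, x ≠ y →
      ∀ t ∈ MulAction.stabilizer G x ⊓ MulAction.stabilizer G y,
      ∀ t' ∈ MulAction.stabilizer G x ⊓ MulAction.stabilizer G y,
        t ≠ 1 → t * t = 1 → t' ≠ 1 → t' * t' = 1 → t = t')
    (hJ : Nat.card {g : G // g ≠ 1 ∧ g * g = 1} = j)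
    (hJf : ∀ g : G, g ≠ 1 → g * g = 1 → Nat.card {ω : G ⧸ B // g • ω = ω} = f) :
    2 * Nat.card {g : G // ∀ ω : G ⧸ B, g • ω ≠ ω} + 2 =
      B.index * (B.index - 1) * (h - 2) + 2 * (f - 1) * j + 2 * B.index := by
  classical
  let _i1 : Fintype G := Fintype.ofFinite G
  let _i2 : Fintype (G ⧸ B) := Fintype.ofFinite _
  have hidx : B.index = Fintype.card (G ⧸ B) := by
    rw [Subgroup.index_eq_card, Nat.card_eq_fintype_card]
  have haux := card_fixedPointFree_aux (G := G) (Ω := G ⧸ B) h f j hf ?_ ?_ ?_ ?_ ?_ ?_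
  · rw [hidx, Nat.card_eq_fintype_card, Fintype.card_subtype]
    convert haux using 3
    congr 1
    ext g
    simp only [Finset.mem_filter, Finset.mem_univ, true_and]
  · -- h3
    intro x y z hxy hxz hyz g hx hy hz
    have hmem : g ∈ MulAction.stabilizer G x ⊓ MulAction.stabilizer G y ⊓
        MulAction.stabilizer G z := by
      simp only [Subgroup.mem_inf, MulAction.mem_stabilizer_iff]
      exact ⟨⟨hx, hy⟩, hz⟩
    have hc := h3 x y z hxy hxz hyz
    have hpos : 0 < Nat.card ↥(MulAction.stabilizer G x ⊓ MulAction.stabilizer G y ⊓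
        MulAction.stabilizer G z) := Nat.card_pos
    have hpow : (⟨g, hmem⟩ : ↥(MulAction.stabilizer G x ⊓ MulAction.stabilizer G y ⊓
        MulAction.stabilizer G z)) ^ Nat.card ↥(MulAction.stabilizer G x ⊓
        MulAction.stabilizer G y ⊓ MulAction.stabilizer G z) = 1 := pow_card_eq_one'
    have hpow' : g ^ Nat.card ↥(MulAction.stabilizer G x ⊓ MulAction.stabilizer G y ⊓
        MulAction.stabilizer G z) = 1 := by
      have := congrArg Subtype.val hpow
      simpa using this
    obtain ⟨c, hcdef⟩ : ∃ c : ℕ, c = Nat.card ↥(MulAction.stabilizer G x ⊓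
        MulAction.stabilizer G y ⊓ MulAction.stabilizer G z) := ⟨_, rfl⟩
    rw [← hcdef] at hc hpos hpow'
    interval_cases c
    · rw [pow_one] at hpow'
      rw [hpow', one_mul]
    · rw [pow_two] at hpow'
      exact hpow'
  · -- h2
    intro x y hxy
    rw [← h2 x y hxy, Nat.card_eq_fintype_card, Fintype.card_subtype]
    apply congrArg Finset.card
    ext g
    simp [Subgroup.mem_inf, MulAction.mem_stabilizer_iff]
  · -- h2e
    intro x y hxy
    obtain ⟨t, ht, ht1, ht2⟩ := h2e x y hxy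
    simp only [Subgroup.mem_inf, MulAction.mem_stabilizer_iff] at ht
    exact ⟨t, ht.1, ht.2, ht1, ht2⟩
  · -- h2u
    intro x y hxy t t' h1 h2' h3' h4 h5 h6 h7 h8
    exact h2u x y hxy t (by simp only [Subgroup.mem_inf, MulAction.mem_stabilizer_iff]; exact ⟨h1, h2'⟩)
      t' (by simp only [Subgroup.mem_inf, MulAction.mem_stabilizer_iff]; exact ⟨h3', h4⟩) h5 h6 h7 h8
  · -- hJ
    rw [← hJ, Nat.card_eq_fintype_card, Fintype.card_subtype]
  · -- hJf
    intro g hg1 hg2
    rw [← hJf g hg1 hg2, Nat.card_eq_fintype_card, Fintype.card_subtype]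
    congr 1
    ext ω
    simp only [Finset.mem_filter, Finset.mem_univ, true_and]

end Cfsg.Agent.Helper67
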