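/-
CALL BG17 (helper25), piece FL1 (helper67): no non-identity element of `K` centralizes `M_σ`.
-/
import Cfsg.Agent.Helper23.BG157NK
import Cfsg.Agent.Helper24.BG11b
import Cfsg.Agent.S1403

set_option autoImplicit false

namespace Cfsg.Agent.Helper67

open Cfsg Subgroup

universe u

variable {G : Type u} [Group G] [Finite G]

/-- FL1. No non-identity element of `K` centralizes `M_σ`. -/
theorem bg17_K_not_cent (hG : IsMinSimpleOddOrder G) {M K : Subgroup G} (hM : IsCoatom M)
    (hKc : IsCyclic K) (hK : IsPiHallOf (kappa M) K M) {k : G} (hk : k ∈ K) (hk1 : k ≠ 1) :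
    ¬ sigmaCore M ≤ centralizer ({k} : Set G) := by
  intro hle
  have hU : Cfsg.Agent.Helper22.BGUniq G := fun K hK h1 h2 => Cfsg.Agent.S1403.result hG K hK h1 h2
  have hS1 : sigmaCore M ≠ ⊥ := Cfsg.Agent.Helper24.bg11b_sigmaCore_ne_bot hG hU hM
  refine Cfsg.Agent.Helper23.bg157_not_kappa hG hM (le_refl (sigmaCore M)) hS1 ?_ hK hk hk1 ?_
  · rw [Subgroup.relIndex_self]
    exact Nat.coprime_one_right _
  · rw [Subgroup.mem_centralizer_iff]
    intro h hh
    exact ((Subgroup.mem_centralizer_iff.mp (hle hh)) k (Set.mem_singleton k)).symm
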