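import Mathlib
import Cfsg.Agent.S1350
import Cfsg.Agent.S1366
import Cfsg.Agent.S1378

/-!
# CALL BG36 (row S1436) piece KD (helper67).
-/

set_option autoImplicit false

namespace Cfsg.Agent.Helper67

open Cfsg Subgroup

universe u

variable {G : Type u} [Group G] [Finite G]

/-- PIECE KD: the partner `M*` of `M` (S1366) has `K ≤ M*_σ`, so `q ∈ σ(M*) ∩ σ(N)` and `N` is
conjugate to `M*` (S1378). -/
theorem bg36_partner (hG : IsMinSimpleOddOrder G) {M K U N : Subgroup G} (hM : IsCoatom M)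
    (hKU : IsSigmaDecomposition M K U) (hK1 : K ≠ ⊥) (hN : IsCoatom N) {q : ℕ}
    (hq : q ∈ sigma N) (hqK : q ∣ Nat.card K) :
    ∃ (Ms : Subgroup G) (g : G), IsCoatom Ms ∧
      K = sigmaCore Ms ⊓ centralizer ((sigmaCore M ⊓ centralizer (K : Set G) : Subgroup G) : Set G) ∧
      IsPiHallOf (kappa Ms) (sigmaCore M ⊓ centralizer (K : Set G)) Ms ∧
      N = Ms.map (MulAut.conj g).toMonoidHom := by
  obtain ⟨Ms, ⟨hMs, hKst, hKstH⟩, -⟩ := Cfsg.Agent.S1366.result hG M hM K U hKU hK1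
  have hKle : K ≤ sigmaCore Ms := (le_of_eq hKst).trans inf_le_left
  have hqσ : q ∈ sigma Ms :=
    (Cfsg.Agent.S1350.result hG Ms hMs).1.2.1 q hq.1 (hqK.trans (Subgroup.card_dvd_of_le hKle))
  obtain ⟨g, hg⟩ := (Cfsg.Agent.S1378.result hG).2 Ms N hMs hN ⟨q, hqσ, hq⟩
  exact ⟨Ms, g, hMs, hKst, hKstH, hg⟩

end Cfsg.Agent.Helper67
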