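import Mathlib
import Cfsg.Agent.S1375
import Cfsg.Agent.Helper54.BG14T4

/-!
# CALL BG36 (row S1436) piece KE3 (helper67).
-/

set_option autoImplicit false

namespace Cfsg.Agent.Helper67

open Cfsg Subgroup

universe u

variable {G : Type u} [Group G] [Finite G]

/-- PIECE KE3: transport of S1375 along a conjugation: with `N = g M* g⁻¹`, the element
`g⁻¹ x g` of `M*` lies in `U₂ M*_σ` for every σ-decomposition of `M*`. -/
theorem bg36_conj_setup (hG : IsMinSimpleOddOrder G) {M N Ms : Subgroup G} (hM : IsCoatom M)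
    {x g : G} (hx : x ∈ sigmaCore M) (hx1 : x ≠ 1) (hxM : ¬ centralizer ({x} : Set G) ≤ M)
    (hN : IsCoatom N) (hxN : centralizer ({x} : Set G) ≤ N) (hMs : IsCoatom Ms)
    (hNg : N = Ms.map (MulAut.conj g).toMonoidHom) :
    g⁻¹ * x * g ∈ Ms ∧ orderOf (g⁻¹ * x * g) = orderOf x ∧
      ∀ K₂ U₂ : Subgroup G, IsSigmaDecomposition Ms K₂ U₂ → g⁻¹ * x * g ∈ U₂ ⊔ sigmaCore Ms := by
  have hxN' : x ∈ N := hxN (Cfsg.Agent.Helper54.bg14t_mem_cent.mpr rfl)
  have h1 : g⁻¹ * x * g ∈ Ms := by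
    rw [hNg, Cfsg.Agent.Helper54.bg14t_mem_map_conj] at hxN'
    exact hxN'
  have h2 : orderOf (g⁻¹ * x * g) = orderOf x := by
    have e : g⁻¹ * x * g = MulAut.conj g⁻¹ x := by rw [MulAut.conj_apply, inv_inv]
    rw [e]
    exact (MulAut.conj g⁻¹).orderOf_eq x
  refine ⟨h1, h2, ?_⟩
  have hM' : IsCoatom (M.map (MulAut.conj g⁻¹).toMonoidHom) :=
    Cfsg.Agent.Helper47.isCoatom_map_conj hM g⁻¹
  have hx' : g⁻¹ * x * g ∈ sigmaCore (M.map (MulAut.conj g⁻¹).toMonoidHom) := by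
    rw [Cfsg.Agent.Helper54.bg14t_mem_sigmaCore_conj]
    have e : g⁻¹⁻¹ * (g⁻¹ * x * g) * g⁻¹ = x := by group
    rw [e]
    exact hx
  have hx'1 : g⁻¹ * x * g ≠ 1 := by
    intro h
    apply hx1
    have e : x = g * (g⁻¹ * x * g) * g⁻¹ := by group
    rw [e, h]
    group
  have hcent : ∀ t : G, t ∈ centralizer ({g⁻¹ * x * g} : Set G) ↔
      g * t * g⁻¹ ∈ centralizer ({x} : Set G) := by
    intro t
    rw [Cfsg.Agent.Helper54.bg14t_mem_cent, Cfsg.Agent.Helper54.bg14t_mem_cent]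
    constructor
    · intro h
      have e1 : x * (g * t * g⁻¹) = g * (g⁻¹ * x * g * t) * g⁻¹ := by group
      have e2 : g * t * g⁻¹ * x = g * (t * (g⁻¹ * x * g)) * g⁻¹ := by group
      rw [e1, e2, h]
    · intro h
      have e1 : g⁻¹ * x * g * t = g⁻¹ * (x * (g * t * g⁻¹)) * g := by group
      have e2 : t * (g⁻¹ * x * g) = g⁻¹ * (g * t * g⁻¹ * x) * g := by group
      rw [e1, e2, h]
  have hx'M : ¬ centralizer ({g⁻¹ * x * g} : Set G) ≤ M.map (MulAut.conj g⁻¹).toMonoidHom := by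
    intro hle
    apply hxM
    intro t ht
    have h3 : g⁻¹ * t * g ∈ centralizer ({g⁻¹ * x * g} : Set G) := by
      rw [hcent]
      have e : g * (g⁻¹ * t * g) * g⁻¹ = t := by group
      rw [e]
      exact ht
    have h4 := hle h3
    rw [Cfsg.Agent.Helper54.bg14t_mem_map_conj] at h4
    have e : g⁻¹⁻¹ * (g⁻¹ * t * g) * g⁻¹ = t := by group
    rw [e] at h4
    exact h4
  obtain ⟨N', ⟨hN', hCN'⟩, huniq, -, -, -, -, hdec⟩ :=
    Cfsg.Agent.S1375.result hG _ hM' _ hx' hx'1 hx'M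
  have hCMs : centralizer ({g⁻¹ * x * g} : Set G) ≤ Ms := by
    intro t ht
    have h3 := hxN ((hcent t).mp ht)
    rw [hNg, Cfsg.Agent.Helper54.bg14t_mem_map_conj] at h3
    have e : g⁻¹ * (g * t * g⁻¹) * g = t := by group
    rw [e] at h3
    exact h3
  have hEq : Ms = N' := huniq Ms hMs hCMs
  intro K₂ U₂ hKU₂
  rw [hEq] at hKU₂ ⊢
  exact (hdec K₂ U₂ hKU₂).2.1.2

end Cfsg.Agent.Helper67
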