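import Mathlib
import Cfsg.Agent.S1432
import Cfsg.Agent.Helper54.BG14T4

/-!
# CALL BG36 (row S1436) piece T4 (helper67).
-/

set_option autoImplicit false

namespace Cfsg.Agent.Helper67

open Cfsg Subgroup

universe u

variable {G : Type u} [Group G] [Finite G]

/-- PIECE T4 (step 1): an element `z ∈ M` of order `q` acts fixed-point-freely on `M_σ`. -/
theorem bg36_step1 (hG : IsMinSimpleOddOrder G) {M N : Subgroup G} (hM : IsCoatom M)
    (hN : IsCoatom N) (hκ : kappa M = ∅) {q : ℕ} (hq : q ∈ sigma N) (hqσ : q ∉ sigma M)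
    {z g : G} (hzM : z ∈ M) (hzq : orderOf z = q)
    (hgC : centralizer ({g * z * g⁻¹} : Set G) ≤ N) :
    sigmaCore M ⊓ centralizer ({z} : Set G) = ⊥ := by
  by_contra hne
  rw [Subgroup.eq_bot_iff_forall] at hne
  push Not at hne
  obtain ⟨x, hxmem, hx1⟩ := hne
  have hxσ : x ∈ sigmaCore M := hxmem.1
  have hxz : z * x = x * z := Cfsg.Agent.Helper54.bg14t_mem_cent.mp hxmem.2
  have hqp : q.Prime := hq.1
  have hz1 : z ≠ 1 := by
    intro h
    rw [h, orderOf_one] at hzq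
    exact hqp.one_lt.ne hzq
  have hzC : z ∈ M ⊓ centralizer ({x} : Set G) :=
    ⟨hzM, Cfsg.Agent.Helper54.bg14t_mem_cent.mpr hxz.symm⟩
  have hσ : ∀ p : ℕ, p.Prime → p ∣ orderOf z → p ∉ sigma M := by
    intro p hp hpd
    rw [hzq] at hpd
    rw [(Nat.prime_dvd_prime_iff_eq hp hqp).mp hpd]
    exact hqσ
  rcases Cfsg.Agent.S1432.result hG M hM x hxσ hx1 z hzC hz1 hσ with ⟨h1, -⟩ | ⟨-, -, -, huniq⟩
  · have h2 : q ∈ kappa M := h1 q hqp (by rw [hzq])
    rw [hκ] at h2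
    exact h2
  · have hN' : IsCoatom (N.map (MulAut.conj g⁻¹).toMonoidHom) :=
      Cfsg.Agent.Helper47.isCoatom_map_conj hN g⁻¹
    have hle : centralizer ({z} : Set G) ≤ N.map (MulAut.conj g⁻¹).toMonoidHom := by
      intro t ht
      rw [Cfsg.Agent.Helper54.bg14t_mem_map_conj]
      apply hgC
      rw [Cfsg.Agent.Helper54.bg14t_mem_cent_conj]
      have e : g⁻¹ * (g⁻¹⁻¹ * t * g⁻¹) * g = t := by group
      rw [e]
      exact ht
    have hEq := huniq _ hN' hle
    have hσeq := Cfsg.Agent.Helper54.bg14t_sigma_conj N g⁻¹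
    rw [hEq] at hσeq
    exact hqσ (hσeq ▸ hq)

end Cfsg.Agent.Helper67
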