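import Cfsg.Agent.Helper1.C9Defs
import Cfsg.Agent.S1364
import Cfsg.Agent.S1372
import Cfsg.Agent.S1350
import Cfsg.Agent.Helper23.FittingHall

/-!
# CALL C9 (S1376) piece BAS (double, helper67): `c9_basic`, the basic facts of the setting.
-/

set_option autoImplicit false

namespace Cfsg.Agent.Helper67

open Cfsg Subgroup
open Cfsg.Agent.Helper1 (C9)

universe u

variable {G : Type u} [Group G] [Finite G]

/-- BAS: the basic facts in the setting `C9`. -/
theorem c9_basic (hG : IsMinSimpleOddOrder G) {M N K U L : Subgroup G} {x : G}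
    (h : C9 M N K U L x) :
    M ≠ L ∧ K ≤ M ⊓ L ∧ K ≤ sigmaCore L ∧ (Nat.card K).Prime ∧ Nat.card K ∉ sigma M ∧
      (M ⊓ L) ⊓ sigmaCore M = ⊥ ∧
      (∀ s : ℕ, s.Prime → s ∣ Nat.card ↥(M ⊓ L) → s ∣ Nat.card M ∧ s ∉ sigma M) ∧
      sigmaCore M ≠ ⊥ := by
  have hKML : K ≤ M ⊓ L := h.hKF.trans (Subgroup.map_subtype_le _)
  have h7 : ∀ s : ℕ, s.Prime → s ∣ Nat.card ↥(M ⊓ L) → s ∣ Nat.card M ∧ s ∉ sigma M := by
    intro s hs hdvd
    refine ⟨hdvd.trans (Subgroup.card_dvd_of_le inf_le_left), ?_⟩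
    intro hsσ
    have hhall := (Cfsg.Agent.S1350.result hG M h.hM).1
    have hcard := Cfsg.Agent.Helper23.card_of_isComplIn _ _ _ h.hE
    have hrel := Subgroup.relIndex_mul_relIndex ⊥ (sigmaCore M) M bot_le hhall.1
    rw [Subgroup.relIndex_bot_left, Subgroup.relIndex_bot_left] at hrel
    have hpos : 0 < Nat.card (sigmaCore M) := Nat.card_pos
    have heq : (sigmaCore M).relIndex M = Nat.card ↥(M ⊓ L) := by
      have h1 : Nat.card (sigmaCore M) * (sigmaCore M).relIndex M =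
          Nat.card (sigmaCore M) * Nat.card ↥(M ⊓ L) := by
        rw [hrel, hcard, mul_comm]
      exact Nat.eq_of_mul_eq_mul_left hpos h1
    exact hhall.2.2 s hs hsσ (heq ▸ hdvd)
  have hprime : (Nat.card K).Prime :=
    (Cfsg.Agent.S1372.result hG N h.hN K U h.hKU h.hK1 h.hU1).1
  refine ⟨?_, hKML, (le_of_eq h.hKst).trans inf_le_left, hprime,
    (h7 _ hprime (Subgroup.card_dvd_of_le hKML)).2, h.hE.2.2.1, h7, ?_⟩
  · intro hML
    have h64 := Cfsg.Agent.S1364.result hG N h.hN K U h.hKU h.hK1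
    have hne : (sigmaCore N ⊓ centralizer (K : Set G)) ≠ ⊥ := h64.2.1
    have hcard : Nat.card ↥(sigmaCore N ⊓ centralizer (K : Set G)) ≠ 1 := by
      intro h1
      exact hne (Subgroup.card_eq_one.mp h1)
    obtain ⟨p, hp, hpd⟩ := Nat.exists_prime_and_dvd hcard
    have hpk : p ∈ kappa L := h.hKstH.2.1 p hp hpd
    rw [← hML, h.hκ] at hpk
    exact hpk
  · intro hbot
    have hx := h.hx
    rw [hbot, Subgroup.mem_bot] at hx
    exact h.hx1 hx

end Cfsg.Agent.Helper67
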