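import Cfsg.Agent.Helper67.D7920ARFA

/-!
# CALL S4429 piece ARFB: pattern B of the principal 11-block is impossible
-/

set_option autoImplicit false

universe u

namespace Cfsg.Agent.Helper67

-- PIECE ARFB: pattern B is impossible
theorem o7920_final_B {I : Type*} [Fintype I] [DecidableEq I] (d : I → ℕ)
    (hdvd : ∀ χ, d χ ∣ 7920) (hsq : ∑ χ, d χ ^ 2 = 7920)
    (h5 : (Finset.univ.filter (fun χ => ¬ 5 ∣ d χ)).card = 5)
    (l : List I) (hl : l.Nodup) (hout : ∀ χ, χ ∉ l → 11 ∣ d χ)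
    (hpat : l.map d = [1, 12, 12, 10, 10, 5, 5]) : False := by
  obtain ⟨u, v, k, -, -, -, hdu, hdv, hsum, -⟩ :=
    d7920_compl d hdvd hsq h5 l hl hout _ hpat 539 (by decide) (by norm_num) (by decide)
  rcases hdu with h | h | h | h | h <;> rcases hdv with h' | h' | h' | h' | h' <;>
    rw [h, h'] at hsum <;> omega

end Cfsg.Agent.Helper67
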