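import Mathlib

/-!
# Irreducible representations of `q`-groups over an algebraically closed field

`pgi_schur`: Schur's lemma for an irreducible family of operators over an algebraically closed
field.  `pgi_finrank_eq_pow`: an irreducible representation of a finite `q`-group over an
algebraically closed field (any characteristic) has dimension a power of `q` (monomiality).
-/

set_option autoImplicit false

namespace Cfsg.Agent.Helper67

universe u v

/-- Schur: an endomorphism commuting with an irreducible family over an algebraically closed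
field is a scalar. -/
theorem pgi_schur {K : Type*} [Field K] [IsAlgClosed K] {V : Type*} [AddCommGroup V] [Module K V]
    [FiniteDimensional K V] [Nontrivial V] {ι : Type*} (f : ι → Module.End K V)
    (hirr : ∀ W : Submodule K V, (∀ i, W.map (f i) ≤ W) → W = ⊥ ∨ W = ⊤)
    (φ : Module.End K V) (hφ : ∀ i, φ * f i = f i * φ) : ∃ c : K, φ = c • 1 := by
  obtain ⟨c, hc⟩ := Module.End.exists_eigenvalue φ
  refine ⟨c, ?_⟩
  have hinv : ∀ i, (φ.eigenspace c).map (f i) ≤ φ.eigenspace c := by
    intro i w hw
    obtain ⟨v, hv, rfl⟩ := Submodule.mem_map.1 hw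
    rw [Module.End.mem_eigenspace_iff] at hv ⊢
    have := congrArg (fun g : Module.End K V => g v) (hφ i)
    simp only [Module.End.mul_apply] at this
    rw [this, hv, map_smul]
  rcases hirr _ hinv with h | h
  · exact absurd h (Module.End.hasEigenvalue_iff.1 hc)
  · refine LinearMap.ext (fun v => ?_)
    have hv : v ∈ φ.eigenspace c := by rw [h]; exact Submodule.mem_top
    rw [Module.End.mem_eigenspace_iff] at hv
    rw [hv, LinearMap.smul_apply, Module.End.one_apply]

/-- An irreducible representation of a finite `q`-group over an algebraically closed field has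
dimension a power of `q`. -/
theorem pgi_finrank_eq_pow (q : ℕ) [Fact q.Prime] {K : Type*} [Field K] [IsAlgClosed K] (m : ℕ) :
    ∀ (Q : Type u) [Group Q] [Finite Q], Nat.card Q = m → IsPGroup q Q →
    ∀ (V : Type v) [AddCommGroup V] [Module K V] [FiniteDimensional K V] [Nontrivial V]
      (ρ : Q →* Module.End K V),
      (∀ W : Submodule K V, (∀ g : Q, W.map (ρ g) ≤ W) → W = ⊥ ∨ W = ⊤) →
      ∃ b : ℕ, Module.finrank K V = q ^ b := by
  induction m using Nat.strong_induction_on with
  | _ m ih =>
  intro Q _ _ hm hQ V _ _ _ _ ρ hirr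
  classical
  have schur : ∀ φ : Module.End K V, (∀ g : Q, φ * ρ g = ρ g * φ) → ∃ c : K, φ = c • 1 :=
    fun φ hφ => pgi_schur (fun g : Q => ρ g) hirr φ hφ
  have hinvl : ∀ g : Q, ρ g⁻¹ * ρ g = 1 := fun g => by rw [← map_mul, inv_mul_cancel, map_one]
  have hinvr : ∀ g : Q, ρ g * ρ g⁻¹ = 1 := fun g => by rw [← map_mul, mul_inv_cancel, map_one]
  by_cases hcomm : ∀ a b : Q, ρ a * ρ b = ρ b * ρ a
  · refine ⟨0, ?_⟩
    obtain ⟨v, hv⟩ := exists_ne (0 : V)
    have hinv : ∀ g : Q, (Submodule.span K {v}).map (ρ g) ≤ Submodule.span K {v} := by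
      intro g
      obtain ⟨c, hc⟩ := schur (ρ g) (fun b => hcomm g b)
      rw [Submodule.map_span, Set.image_singleton, hc, Submodule.span_le,
        Set.singleton_subset_iff, LinearMap.smul_apply, Module.End.one_apply]
      exact Submodule.smul_mem _ _ (Submodule.mem_span_singleton_self v)
    rcases hirr _ hinv with h | h
    · exact absurd ((Submodule.span_singleton_eq_bot).1 h) hv
    · rw [pow_zero, ← finrank_top K V, ← h, finrank_span_singleton hv]
  · push Not at hcomm
    obtain ⟨a₀, b₀, hab₀⟩ := hcomm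
    have hnil : Group.IsNilpotent Q := hQ.isNilpotent
    obtain ⟨N, hN⟩ := hnil.nilpotent'
    have hex : ∃ n, ∃ x ∈ Subgroup.upperCentralSeries Q n, ∃ b, ρ x * ρ b ≠ ρ b * ρ x :=
      ⟨N, a₀, by rw [hN]; trivial, b₀, hab₀⟩
    have hn0 : Nat.find hex ≠ 0 := by
      intro h0
      obtain ⟨x, hx, b, hb⟩ := Nat.find_spec hex
      rw [h0, Subgroup.upperCentralSeries_zero, Subgroup.mem_bot] at hx
      rw [hx, map_one, one_mul, mul_one] at hb
      exact hb rfl
    obtain ⟨a, ha, b₁, hab₁⟩ := Nat.find_spec hex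
    have hZ : ∀ b g : Q, ρ (a * b * a⁻¹ * b⁻¹) * ρ g = ρ g * ρ (a * b * a⁻¹ * b⁻¹) := by
      intro b g
      by_contra hcon
      have hmem : a * b * a⁻¹ * b⁻¹ ∈ Subgroup.upperCentralSeries Q (Nat.find hex - 1) := by
        have h1 : a ∈ Subgroup.upperCentralSeries Q (Nat.find hex - 1 + 1) := by
          rw [Nat.sub_add_cancel (Nat.pos_of_ne_zero hn0)]; exact ha
        have h2 := (Subgroup.mem_upperCentralSeries_succ_iff.1 h1) b
        rwa [commutatorElement_def] at h2
      exact Nat.find_min hex (Nat.sub_lt (Nat.pos_of_ne_zero hn0) one_pos) ⟨_, hmem, g, hcon⟩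
    choose c hc using fun b => schur (ρ (a * b * a⁻¹ * b⁻¹)) (hZ b)
    have hR : ∀ b, ρ a * ρ b = c b • (ρ b * ρ a) := by
      intro b
      have h1 : ρ (a * b * a⁻¹ * b⁻¹) * (ρ b * ρ a) = ρ a * ρ b := by
        rw [map_mul, map_mul, map_mul]
        calc ρ a * ρ b * ρ a⁻¹ * ρ b⁻¹ * (ρ b * ρ a)
            = ρ a * ρ b * ρ a⁻¹ * (ρ b⁻¹ * ρ b) * ρ a := by simp only [mul_assoc]
          _ = ρ a * ρ b * (ρ a⁻¹ * ρ a) := by rw [hinvl, mul_one, mul_assoc]
          _ = ρ a * ρ b := by rw [hinvl, mul_one]
      rw [← h1, hc b, smul_mul_assoc, one_mul]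
    obtain ⟨μ, hμ⟩ := Module.End.exists_eigenvalue (ρ a)
    have hE : (ρ a).eigenspace μ ≠ ⊥ := Module.End.hasEigenvalue_iff.1 hμ
    set E : Submodule K V := (ρ a).eigenspace μ with hEdef
    have hinj : ∀ (g : Q) (v : V), ρ g v = 0 → v = 0 := by
      intro g v hv
      have := congrArg (fun f : Module.End K V => f v) (hinvl g)
      simp only [Module.End.mul_apply, Module.End.one_apply] at this
      rw [← this, hv, map_zero]
    have hμ0 : μ ≠ 0 := by
      intro h0
      obtain ⟨v, hv, hv0⟩ := (Submodule.ne_bot_iff _).1 hE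
      rw [hEdef, Module.End.mem_eigenspace_iff, h0, zero_smul] at hv
      exact hv0 (hinj a v hv)
    have hmap : ∀ (b : Q) (ν : K), ((ρ a).eigenspace ν).map (ρ b) ≤ (ρ a).eigenspace (c b * ν) := by
      intro b ν w hw
      obtain ⟨v, hv, rfl⟩ := Submodule.mem_map.1 hw
      rw [Module.End.mem_eigenspace_iff] at hv ⊢
      have := congrArg (fun f : Module.End K V => f v) (hR b)
      simp only [Module.End.mul_apply, LinearMap.smul_apply] at this
      rw [this, hv, map_smul, smul_smul]
    -- the stabilizer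
    let H : Subgroup Q :=
      { carrier := {b | ρ b * ρ a = ρ a * ρ b}
        one_mem' := by simp
        mul_mem' := by
          intro x y hx hy
          simp only [Set.mem_ofPred_eq] at hx hy ⊢
          rw [map_mul, mul_assoc, hy, ← mul_assoc, hx, mul_assoc]
        inv_mem' := by
          intro x hx
          simp only [Set.mem_ofPred_eq] at hx ⊢
          calc ρ x⁻¹ * ρ a = ρ x⁻¹ * ρ a * (ρ x * ρ x⁻¹) := by rw [hinvr, mul_one]
            _ = ρ x⁻¹ * (ρ a * ρ x) * ρ x⁻¹ := by simp only [mul_assoc]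
            _ = ρ x⁻¹ * (ρ x * ρ a) * ρ x⁻¹ := by rw [hx]
            _ = (ρ x⁻¹ * ρ x) * ρ a * ρ x⁻¹ := by simp only [mul_assoc]
            _ = ρ a * ρ x⁻¹ := by rw [hinvl, one_mul] }
    have hHmem : ∀ b : Q, b ∈ H ↔ ρ b * ρ a = ρ a * ρ b := fun b => Iff.rfl
    have hb₁ : b₁ ∉ H := fun h => hab₁ ((hHmem b₁).1 h).symm
    have hcardH : Nat.card H < m := by
      rw [← hm]
      refine lt_of_le_of_ne (Subgroup.card_le_card_group H) (fun h => ?_)
      have : H = ⊤ := Subgroup.eq_top_of_card_eq H h
      exact hb₁ (this ▸ Subgroup.mem_top b₁)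
    have hc1 : ∀ b : Q, c b = 1 → b ∈ H := by
      intro b h1
      rw [hHmem]
      have := hR b
      rw [h1, one_smul] at this
      exact this.symm
    have hEinv : ∀ b : H, ∀ v ∈ E, ρ (b : Q) v ∈ E := by
      intro b v hv
      rw [hEdef, Module.End.mem_eigenspace_iff] at hv ⊢
      have := congrArg (fun f : Module.End K V => f v) ((hHmem b).1 b.2)
      simp only [Module.End.mul_apply] at this
      rw [← this, hv, map_smul]
    have hEmap : ∀ b : Q, b ∈ H → E ≤ E.map (ρ b) := by
      intro b hb v hv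
      refine Submodule.mem_map.2 ⟨ρ b⁻¹ v, hEinv ⟨b⁻¹, H.inv_mem hb⟩ v hv, ?_⟩
      have := congrArg (fun f : Module.End K V => f v) (hinvr b)
      simpa only [Module.End.mul_apply, Module.End.one_apply] using this
    -- invariance of the span of the translates
    have hsupinv : ∀ (W : Submodule K V) (g : Q),
        (⨆ b : Q, W.map (ρ b)).map (ρ g) ≤ ⨆ b : Q, W.map (ρ b) := by
      intro W g
      rw [Submodule.map_iSup]
      refine iSup_le (fun b => ?_)
      rw [← Submodule.map_comp]
      have : (ρ g) ∘ₗ (ρ b) = ρ (g * b) := by rw [map_mul]; rfl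
      rw [this]
      exact le_iSup (fun b => W.map (ρ b)) (g * b)
    have hle_sup : ∀ W : Submodule K V, W ≤ ⨆ b : Q, W.map (ρ b) := by
      intro W
      refine le_trans ?_ (le_iSup (fun b => W.map (ρ b)) 1)
      rw [map_one]
      exact le_of_eq (Submodule.map_id W).symm
    -- irreducibility of E under H
    let ρE : H →* Module.End K E :=
      { toFun := fun b => (ρ (b : Q)).restrict (hEinv b)
        map_one' := by
          ext v
          simp
        map_mul' := by
          intro b b'
          ext v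
          simp [Module.End.mul_apply] }
    have hρE : ∀ (b : H) (v : E), ((ρE b) v : V) = ρ (b : Q) (v : V) := fun b v => rfl
    have hirrE : ∀ W' : Submodule K E, (∀ b : H, W'.map (ρE b) ≤ W') → W' = ⊥ ∨ W' = ⊤ := by
      intro W' hW'
      set W : Submodule K V := W'.map E.subtype with hWdef
      have hWE : W ≤ E := by
        intro w hw
        obtain ⟨w', _, rfl⟩ := Submodule.mem_map.1 hw
        exact w'.2
      have hWinv : ∀ b : Q, b ∈ H → W.map (ρ b) ≤ W := by
        intro b hb w hw
        obtain ⟨w₁, hw₁, rfl⟩ := Submodule.mem_map.1 hw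
        obtain ⟨w', hw', rfl⟩ := Submodule.mem_map.1 hw₁
        refine Submodule.mem_map.2 ⟨ρE ⟨b, hb⟩ w', hW' ⟨b, hb⟩ (Submodule.mem_map.2 ⟨w', hw', rfl⟩), ?_⟩
        rfl
      rcases hirr _ (hsupinv W) with h | h
      · left
        have hW0 : W = ⊥ := le_bot_iff.1 (h ▸ hle_sup W)
        refine (Submodule.eq_bot_iff _).2 (fun w' hw' => Subtype.ext ?_)
        have hmem : (w' : V) ∈ W := Submodule.mem_map.2 ⟨w', hw', rfl⟩
        rw [hW0] at hmem
        exact (Submodule.mem_bot K).1 hmem
      · right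
        have hsplit : (⨆ b : Q, W.map (ρ b))
            = (⨆ b : Q, ⨆ (_ : b ∈ H), W.map (ρ b)) ⊔ (⨆ b : Q, ⨆ (_ : ¬ b ∈ H), W.map (ρ b)) :=
          iSup_split _ _
        have hA : (⨆ b : Q, ⨆ (_ : b ∈ H), W.map (ρ b)) ≤ W :=
          iSup₂_le (fun b hb => hWinv b hb)
        have hB : (⨆ b : Q, ⨆ (_ : ¬ b ∈ H), W.map (ρ b))
            ≤ ⨆ ν : K, ⨆ (_ : ν ≠ μ), (ρ a).eigenspace ν := by
          refine iSup₂_le (fun b hb => ?_)
          have hne : c b * μ ≠ μ := by
            intro h1
            apply hb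
            apply hc1
            have : (c b - 1) * μ = 0 := by rw [sub_mul, h1, one_mul, sub_self]
            rcases mul_eq_zero.1 this with h2 | h2
            · exact sub_eq_zero.1 h2
            · exact absurd h2 hμ0
          refine le_trans ?_ (le_iSup₂ (f := fun (ν : K) (_ : ν ≠ μ) => (ρ a).eigenspace ν)
            (c b * μ) hne)
          exact le_trans (Submodule.map_mono hWE) (hmap b μ)
        have hdisj := (Module.End.eigenspaces_iSupIndep (ρ a)) μ
        have hEW : E ≤ W := by
          have h1 : E = (⨆ b : Q, W.map (ρ b)) ⊓ E := by rw [h, top_inf_eq]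
          rw [hsplit, sup_inf_assoc_of_le _ (le_trans hA hWE)] at h1
          have h2 : (⨆ b : Q, ⨆ (_ : ¬ b ∈ H), W.map (ρ b)) ⊓ E = ⊥ := by
            rw [inf_comm]
            exact le_bot_iff.1 (le_trans (inf_le_inf_left _ hB) (disjoint_iff.1 hdisj).le)
          rw [h2, sup_bot_eq] at h1
          rw [h1]; exact hA
        have hWeq : W = E := le_antisymm hWE hEW
        have h3 : W'.map E.subtype = (⊤ : Submodule K E).map E.subtype := by
          rw [Submodule.map_subtype_top]; exact hWeq
        exact Submodule.map_injective_of_injective E.injective_subtype h3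
    have : Nontrivial E := Submodule.nontrivial_iff_ne_bot.2 hE
    obtain ⟨b', hb'⟩ := ih (Nat.card H) hcardH H rfl (hQ.to_subgroup H) E ρE hirrE
    -- the decomposition
    let A : Q ⧸ H → Submodule K V := fun i => E.map (ρ i.out)
    have hA_le : A ≤ fun i : Q ⧸ H => (ρ a).eigenspace (c i.out * μ) := fun i => hmap i.out μ
    have hinjν : Function.Injective (fun i : Q ⧸ H => c i.out * μ) := by
      intro i j hij
      have hcij : c i.out = c j.out := mul_right_cancel₀ hμ0 hij
      have hmem : (i.out)⁻¹ * j.out ∈ H := by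
        rw [hHmem, map_mul]
        have hi := hR i.out
        have hj := hR j.out
        rw [← hcij] at hj
        -- ρ a * ρ i = c • (ρ i * ρ a), ρ a * ρ j = c • (ρ j * ρ a)
        have hc0 : c i.out ≠ 0 := by
          intro h0
          rw [h0, zero_smul] at hi
          obtain ⟨v, hv⟩ := exists_ne (0 : V)
          have := congrArg (fun f : Module.End K V => f v) hi
          simp only [Module.End.mul_apply, LinearMap.zero_apply] at this
          exact hv (hinj _ _ (hinj _ _ this))
        -- ρ i⁻¹ * ρ a = c • (ρ a * ρ i⁻¹)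
        have hi' : ρ (i.out)⁻¹ * ρ a = c i.out • (ρ a * ρ (i.out)⁻¹) := by
          calc ρ (i.out)⁻¹ * ρ a = ρ (i.out)⁻¹ * (ρ a * ρ i.out) * ρ (i.out)⁻¹ := by
                rw [mul_assoc, mul_assoc, hinvr, mul_one]
            _ = ρ (i.out)⁻¹ * (c i.out • (ρ i.out * ρ a)) * ρ (i.out)⁻¹ := by rw [hi]
            _ = c i.out • ((ρ (i.out)⁻¹ * ρ i.out) * ρ a * ρ (i.out)⁻¹) := by
                rw [mul_smul_comm, smul_mul_assoc]; simp only [mul_assoc]
            _ = c i.out • (ρ a * ρ (i.out)⁻¹) := by rw [hinvl, one_mul]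
        calc ρ (i.out)⁻¹ * ρ j.out * ρ a = ρ (i.out)⁻¹ * (ρ j.out * ρ a) := by rw [mul_assoc]
          _ = ρ (i.out)⁻¹ * ((c i.out)⁻¹ • (ρ a * ρ j.out)) := by
              rw [hj, smul_smul, inv_mul_cancel₀ hc0, one_smul]
          _ = (c i.out)⁻¹ • ((ρ (i.out)⁻¹ * ρ a) * ρ j.out) := by
              rw [mul_smul_comm, mul_assoc]
          _ = ρ a * (ρ (i.out)⁻¹ * ρ j.out) := by
              rw [hi', smul_mul_assoc, smul_smul, inv_mul_cancel₀ hc0, one_smul, mul_assoc]
      calc i = QuotientGroup.mk i.out := (QuotientGroup.out_eq' i).symm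
        _ = QuotientGroup.mk j.out := QuotientGroup.eq.2 hmem
        _ = j := QuotientGroup.out_eq' j
    have hindep : iSupIndep A :=
      ((Module.End.eigenspaces_iSupIndep (ρ a)).comp hinjν).mono hA_le
    have hsup : iSup A = ⊤ := by
      rcases hirr _ (hsupinv E) with h | h
      · exact absurd (le_bot_iff.1 (h ▸ hle_sup E)) hE
      · refine top_le_iff.1 (h ▸ iSup_le (fun b => ?_))
        obtain ⟨h', hh'⟩ := QuotientGroup.mk_out_eq_mul H b
        refine le_trans ?_ (le_iSup A (QuotientGroup.mk b))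
        show E.map (ρ b) ≤ E.map (ρ (QuotientGroup.mk b : Q ⧸ H).out)
        rw [hh', map_mul]
        have : (ρ b * ρ (h' : Q)) = (ρ b) ∘ₗ (ρ (h' : Q)) := rfl
        rw [this, Submodule.map_comp]
        exact Submodule.map_mono (hEmap h' h'.2)
    have hint : DirectSum.IsInternal A :=
      DirectSum.isInternal_submodule_of_iSupIndep_of_iSup_eq_top hindep hsup
    have : Fintype (Q ⧸ H) := Fintype.ofFinite _
    have hfin : Module.finrank K V = ∑ i : Q ⧸ H, Module.finrank K (A i) := by
      have e := LinearEquiv.ofBijective (DirectSum.coeLinearMap A) hint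
      rw [← e.finrank_eq, Module.finrank_directSum]
    have hAi : ∀ i : Q ⧸ H, Module.finrank K (A i) = Module.finrank K E := by
      intro i
      have hinj' : Function.Injective (ρ i.out) := by
        intro v w hvw
        have : ρ i.out (v - w) = 0 := by rw [map_sub, hvw, sub_self]
        exact sub_eq_zero.1 (hinj _ _ this)
      exact (Submodule.equivMapOfInjective (ρ i.out) hinj' E).finrank_eq.symm
    obtain ⟨j, hj⟩ := hQ.index H
    refine ⟨j + b', ?_⟩
    rw [hfin, Finset.sum_congr rfl (fun i _ => hAi i), Finset.sum_const, Finset.card_univ,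
      smul_eq_mul, hb', pow_add, ← hj, Subgroup.index_eq_card, Nat.card_eq_fintype_card]

end Cfsg.Agent.Helper67
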