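import Mathlib
import Cfsg.Agent.Helper67.TICyclic
import Cfsg.Agent.Helper67.PGroupIrr

/-!
# The critical case of Hall–Higman's Theorem B, by relative traces

`hhc_trace_decomp`: for `Q ⊴ G`, `x` of order `p ^ n` acting on `Q` with `C_Q(u) ≤ C_Q(x)` for all
`1 ≠ u ∈ ⟨x⟩`, `p ∤ |Q|`, characteristic `p`: for `φ` commuting with `ρ x` and with `ρ (C_Q(x))`,
`∑_{a ∈ Q} ρ a φ ρ a⁻¹ = k φ + ∑_{i < p^n} ρ x ^ i Ψ ρ x⁻¹ ^ i` with `k ≠ 0` in `K`.

`hhc_critical`: the critical case (statement S4282).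
-/

set_option autoImplicit false

namespace Cfsg.Agent.Helper67

open Finset

theorem hhc_trace_decomp {G : Type*} [Group G] [Finite G] (p : ℕ) [Fact p.Prime]
    (Q : Subgroup G) [Q.Normal] [Fintype Q]
    (x : G) (n : ℕ) (hn : 1 ≤ n) (hord : orderOf x = p ^ n)
    (hCQ : ∀ u ∈ Subgroup.zpowers x, u ≠ 1 → ∀ a ∈ Q, u * a = a * u → x * a = a * x)
    (hcop : ¬ p ∣ Fintype.card Q)
    {K : Type*} [Field K] [CharP K p] {V : Type*} [AddCommGroup V] [Module K V]
    (ρ : Representation K G V) (φ : Module.End K V)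
    (hφx : ρ x * φ = φ * ρ x)
    (hφQ : ∀ a ∈ Q, x * a = a * x → ρ a * φ = φ * ρ a) :
    ∃ (k : ℕ) (Ψ : Module.End K V), (k : K) ≠ 0 ∧
      ∑ a : Q, ρ (a : G) * φ * ρ (a : G)⁻¹
        = (k : K) • φ + ∑ i ∈ range (p ^ n), ρ x ^ i * Ψ * ρ x⁻¹ ^ i := by
  classical
  have hp : p.Prime := Fact.out
  have hpdq : p ∣ p ^ n := dvd_pow_self p (by omega)
  have hinvl : ∀ g : G, ρ g⁻¹ * ρ g = 1 := fun g => by rw [← map_mul, inv_mul_cancel, map_one]
  have hinvr : ∀ g : G, ρ g * ρ g⁻¹ = 1 := fun g => by rw [← map_mul, mul_inv_cancel, map_one]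
  have : Fintype (Subgroup.zpowers x) := Fintype.ofFinite _
  -- elements of ⟨x⟩
  have hPpow : ∀ u : Subgroup.zpowers x, ∃ i : ℕ, (u : G) = x ^ i := by
    intro u
    have h1 : (u : G) ∈ Submonoid.powers x := mem_powers_iff_mem_zpowers.2 u.2
    obtain ⟨i, hi⟩ := (Submonoid.mem_powers_iff _ _).1 h1
    exact ⟨i, hi.symm⟩
  have hPx : ∀ u : Subgroup.zpowers x, (u : G) * x = x * u := by
    intro u
    obtain ⟨i, hi⟩ := hPpow u
    rw [hi, ← pow_succ, ← pow_succ']
  have hPφ : ∀ u : Subgroup.zpowers x, ρ (u : G) * φ = φ * ρ (u : G) := by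
    intro u
    obtain ⟨i, hi⟩ := hPpow u
    rw [hi, map_pow]
    exact ((Commute.pow_left (show Commute (ρ x) φ from hφx) i)).eq
  have hPφ' : ∀ u : Subgroup.zpowers x, ρ (u : G)⁻¹ * φ * ρ (u : G) = φ := by
    intro u
    rw [mul_assoc, ← hPφ u, ← mul_assoc, hinvl, one_mul]
  -- the action
  let act : MulAction (Subgroup.zpowers x) Q :=
    MulAction.compHom Q ((MulAut.conjNormal (H := Q)).comp (Subgroup.zpowers x).subtype)
  have hsmul : ∀ (u : Subgroup.zpowers x) (a : Q), ((u • a : Q) : G) = (u : G) * a * (u : G)⁻¹ :=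
    fun u a => rfl
  set F : Q → Module.End K V := fun a => ρ (a : G) * φ * ρ (a : G)⁻¹ with hF
  have hFsmul : ∀ (u : Subgroup.zpowers x) (a : Q), F (u • a) = ρ (u : G) * F a * ρ (u : G)⁻¹ := by
    intro u a
    simp only [hF]
    rw [hsmul, mul_inv_rev, mul_inv_rev, inv_inv, map_mul, map_mul, map_mul, map_mul]
    calc ρ (u : G) * ρ (a : G) * ρ (u : G)⁻¹ * φ * (ρ (u : G) * (ρ (a : G)⁻¹ * ρ (u : G)⁻¹))
        = ρ (u : G) * ρ (a : G) * (ρ (u : G)⁻¹ * φ * ρ (u : G)) * ρ (a : G)⁻¹ * ρ (u : G)⁻¹ := by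
          simp only [mul_assoc]
      _ = ρ (u : G) * (ρ (a : G) * φ * ρ (a : G)⁻¹) * ρ (u : G)⁻¹ := by
          rw [hPφ' u]; simp only [mul_assoc]
  set S : Finset Q := Finset.univ.filter (fun a : Q => ¬ (x * (a : G) = (a : G) * x)) with hS
  have hSinv : ∀ u : Subgroup.zpowers x, ∀ a ∈ S, u • a ∈ S := by
    intro u a ha
    rw [hS, Finset.mem_filter] at ha ⊢
    refine ⟨Finset.mem_univ _, fun h => ha.2 ?_⟩
    rw [hsmul] at h
    have hux := hPx u
    have hu'x : (u : G)⁻¹ * x = x * (u : G)⁻¹ := by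
      calc (u : G)⁻¹ * x = (u : G)⁻¹ * (x * (u : G)) * (u : G)⁻¹ := by group
        _ = (u : G)⁻¹ * ((u : G) * x) * (u : G)⁻¹ := by rw [hux]
        _ = x * (u : G)⁻¹ := by group
    calc x * (a : G) = (x * (u : G)⁻¹) * ((u : G) * a * (u : G)⁻¹) * (u : G) := by group
      _ = (u : G)⁻¹ * (x * ((u : G) * a * (u : G)⁻¹)) * (u : G) := by
          rw [← hu'x]; simp only [mul_assoc]
      _ = (u : G)⁻¹ * (((u : G) * a * (u : G)⁻¹) * x) * (u : G) := by rw [h]
      _ = (a : G) * ((u : G)⁻¹ * x) * (u : G) := by group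
      _ = (a : G) * x := by rw [hu'x]; group
  have hSfree : ∀ u : Subgroup.zpowers x, ∀ a ∈ S, u • a = a → u = 1 := by
    intro u a ha hua
    rw [hS, Finset.mem_filter] at ha
    by_contra hu1
    apply ha.2
    have h1 : (u : G) * a * (u : G)⁻¹ = a := by
      have := congrArg Subtype.val hua
      rwa [hsmul] at this
    have h2 : (u : G) * a = a * (u : G) := by
      calc (u : G) * a = ((u : G) * a * (u : G)⁻¹) * (u : G) := by group
        _ = a * (u : G) := by rw [h1]
    exact hCQ (u : G) u.2 (fun h => hu1 (Subtype.ext h)) a a.2 h2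
  obtain ⟨T, hTS, hTsum⟩ := tiv_free_sum (P := Subgroup.zpowers x) F S hSinv hSfree
  obtain ⟨T', hT'S, hT'sum⟩ := tiv_free_sum (P := Subgroup.zpowers x) (fun _ : Q => (1 : ℕ)) S
    hSinv hSfree
  have hcardP : Fintype.card (Subgroup.zpowers x) = p ^ n := by
    rw [Fintype.card_eq_nat_card, Nat.card_zpowers, hord]
  set eP : Fin (p ^ n) → Subgroup.zpowers x :=
    fun i => ⟨x ^ (i : ℕ), Subgroup.npow_mem_zpowers x _⟩ with heP
  have hePbij : Function.Bijective eP := by
    rw [Fintype.bijective_iff_injective_and_card]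
    refine ⟨?_, by rw [Fintype.card_fin, hcardP]⟩
    intro i j hij
    have h : x ^ (i : ℕ) = x ^ (j : ℕ) := congrArg Subtype.val hij
    have hi : (i : ℕ) < orderOf x := by rw [hord]; exact i.2
    have hj : (j : ℕ) < orderOf x := by rw [hord]; exact j.2
    exact Fin.ext (pow_injOn_Iio_orderOf hi hj h)
  set Ψ : Module.End K V := ∑ τ ∈ T, F τ with hΨ
  have hSsum : ∑ a ∈ S, F a = ∑ i ∈ range (p ^ n), ρ x ^ i * Ψ * ρ x⁻¹ ^ i := by
    rw [hTsum, Finset.sum_comm]
    have e1 : ∀ u : Subgroup.zpowers x, ∑ τ ∈ T, F (u • τ) = ρ (u : G) * Ψ * ρ (u : G)⁻¹ := by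
      intro u
      rw [hΨ, Finset.mul_sum, Finset.sum_mul]
      exact Finset.sum_congr rfl (fun τ _ => hFsmul u τ)
    rw [Finset.sum_congr rfl (fun u _ => e1 u)]
    rw [← Fin.sum_univ_eq_sum_range (fun i => ρ x ^ i * Ψ * ρ x⁻¹ ^ i) (p ^ n)]
    symm
    refine Fintype.sum_bijective eP hePbij _ _ (fun i => ?_)
    simp only [heP]
    rw [map_pow, ← inv_pow, map_pow]
  have hScard : S.card = T'.card * p ^ n := by
    have := hT'sum
    simp only [Finset.sum_const, smul_eq_mul, mul_one, Finset.card_univ] at this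
    rw [this, hcardP]
  set S' : Finset Q := Finset.univ.filter (fun a : Q => ¬ ¬ (x * (a : G) = (a : G) * x)) with hS'
  have hkcard : S.card + S'.card = Fintype.card Q := by
    rw [hS, hS', Finset.card_filter_add_card_filter_not, Finset.card_univ]
  have hknd : ¬ p ∣ S'.card := by
    intro hdvd
    apply hcop
    rw [← hkcard, hScard]
    exact dvd_add (Dvd.dvd.mul_left hpdq _) hdvd
  have hkF : (S'.card : K) ≠ 0 := by
    rw [Ne, CharP.cast_eq_zero_iff K p]; exact hknd
  have hAsum : ∑ a ∈ S', F a = (S'.card : K) • φ := by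
    have e1 : ∑ a ∈ S', F a = ∑ a ∈ S', φ := by
      refine Finset.sum_congr rfl (fun a ha => ?_)
      rw [hS', Finset.mem_filter, not_not] at ha
      simp only [hF]
      rw [hφQ a a.2 ha.2, mul_assoc, hinvr, mul_one]
    rw [e1, Finset.sum_const, Nat.cast_smul_eq_nsmul]
  refine ⟨S'.card, Ψ, hkF, ?_⟩
  rw [← hSsum, ← hAsum, add_comm, hS, hS', Finset.sum_filter_add_sum_filter_not]


/-- **Critical case of Hall–Higman's Theorem B.**  `Q ⊴ G` a `q`-group, `x` a `p`-element with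
`C_G(y) = ⟨x⟩ Z(G)` for `1 ≠ y ∈ ⟨x⟩`, `ρ` faithful over an algebraically closed field of
characteristic `p ≠ q`, irreducible on `Q`; `s` the nilpotency index of `ρ x - 1`. -/
theorem hhc_critical {G : Type*} [Group G] [Finite G] (p q : ℕ) [Fact p.Prime] [Fact q.Prime]
    (hpq : p ≠ q) (Q : Subgroup G) [Q.Normal] (hQ : IsPGroup q Q) (x : G)
    (hx : IsPGroup p (Subgroup.zpowers x))
    (hC : ∀ y ∈ Subgroup.zpowers x, y ≠ 1 →
      Subgroup.centralizer ({y} : Set G) = Subgroup.zpowers x ⊔ Subgroup.center G)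
    {K : Type*} [Field K] [IsAlgClosed K] [CharP K p] {V : Type*} [AddCommGroup V] [Module K V]
    [FiniteDimensional K V] [Nontrivial V] (ρ : Representation K G V)
    (hfaith : Function.Injective ρ)
    (hirr : ∀ W : Submodule K V, (∀ g ∈ Q, Submodule.map (ρ g) W ≤ W) → W = ⊥ ∨ W = ⊤)
    (s : ℕ) (hs : (ρ x - 1) ^ s = 0) (hmin : ∀ k < s, (ρ x - 1) ^ k ≠ 0) :
    Nat.card (Subgroup.zpowers x) - 1 ≤ s ∧ s ≤ Nat.card (Subgroup.zpowers x) ∧
      (s = Nat.card (Subgroup.zpowers x) - 1 →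
        (∃ b : ℕ, Nat.card (Subgroup.zpowers x) - 1 = q ^ b) ∧ ¬ IsMulCommutative Q) := by
  classical
  have hp : p.Prime := Fact.out
  have hq : q.Prime := Fact.out
  have : Fintype Q := Fintype.ofFinite Q
  obtain ⟨n, hn⟩ := hx.exists_card_eq
  have hord : orderOf x = p ^ n := by rw [← Nat.card_zpowers]; exact hn
  rw [hn]
  have hinvl : ∀ g : G, ρ g⁻¹ * ρ g = 1 := fun g => by rw [← map_mul, inv_mul_cancel, map_one]
  have hinvr : ∀ g : G, ρ g * ρ g⁻¹ = 1 := fun g => by rw [← map_mul, mul_inv_cancel, map_one]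
  have htN : (ρ x - 1) ^ (p ^ n) = 0 := by
    rw [tic_sub_one_pow (F := K) p (ρ x) n, sub_eq_zero, ← map_pow, ← hord, pow_orderOf_eq_one,
      map_one]
  have hsle : s ≤ p ^ n := by
    by_contra hcon
    exact hmin (p ^ n) (by omega) htN
  have hone : (1 : Module.End K V) ≠ 0 := by
    obtain ⟨v, hv⟩ := exists_ne (0 : V)
    intro h
    have := congrArg (fun f : Module.End K V => f v) h
    simp only [Module.End.one_apply, LinearMap.zero_apply] at this
    exact hv this
  have hspos : 1 ≤ s := by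
    by_contra hcon
    have hs0 : s = 0 := by omega
    rw [hs0, pow_zero] at hs
    exact hone hs
  have schur : ∀ φ : Module.End K V, (∀ a : Q, φ * ρ (a : G) = ρ (a : G) * φ) →
      ∃ c : K, φ = c • 1 :=
    fun φ hφ => pgi_schur (fun a : Q => ρ (a : G))
      (fun W hW => hirr W (fun g hg => hW ⟨g, hg⟩)) φ hφ
  by_cases hn0 : n = 0
  · have h1 : p ^ n = 1 := by rw [hn0, pow_zero]
    rw [h1] at hsle ⊢
    exact ⟨by omega, hsle, fun h => by omega⟩
  have hn1 : 1 ≤ n := by omega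
  have hN2 : 2 ≤ p ^ n := by
    calc 2 ≤ p := hp.two_le
      _ = p ^ 1 := (pow_one p).symm
      _ ≤ p ^ n := Nat.pow_le_pow_right hp.pos hn1
  have hx1 : x ≠ 1 := by
    intro h
    rw [h, orderOf_one] at hord
    omega
  have hcentx : Subgroup.centralizer ({x} : Set G) = Subgroup.zpowers x ⊔ Subgroup.center G :=
    hC x (Subgroup.mem_zpowers x) hx1
  have hCQ : ∀ u ∈ Subgroup.zpowers x, u ≠ 1 → ∀ a ∈ Q, u * a = a * u → x * a = a * x := by
    intro u hu hu1 a _ hua
    have h1 : a ∈ Subgroup.centralizer ({u} : Set G) := by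
      rw [Subgroup.mem_centralizer_iff]
      intro h hh
      rw [Set.mem_singleton_iff] at hh
      rw [hh]; exact hua
    rw [hC u hu hu1, ← hcentx, Subgroup.mem_centralizer_iff] at h1
    exact h1 x (Set.mem_singleton x)
  have hcop : ¬ p ∣ Fintype.card Q := by
    intro hdvd
    obtain ⟨j, hj⟩ := hQ.exists_card_eq
    rw [Fintype.card_eq_nat_card, hj] at hdvd
    exact hpq ((Nat.prime_dvd_prime_iff_eq hp hq).1 (hp.dvd_of_dvd_pow hdvd))
  have hφQ : ∀ φ : Module.End K V, ρ x * φ = φ * ρ x →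
      ∀ a ∈ Q, x * a = a * x → ρ a * φ = φ * ρ a := by
    intro φ hφ a _ hxa
    have h1 : a ∈ Subgroup.centralizer ({x} : Set G) := by
      rw [Subgroup.mem_centralizer_iff]
      intro h hh
      rw [Set.mem_singleton_iff] at hh
      rw [hh]; exact hxa
    rw [hcentx] at h1
    have h1' : a ∈ ((Subgroup.zpowers x ⊔ Subgroup.center G : Subgroup G) : Set G) := h1
    rw [Subgroup.mul_normal] at h1'
    obtain ⟨u, hu, z, hz, rfl⟩ := Set.mem_mul.1 h1'
    obtain ⟨c, hc⟩ : ∃ c : K, ρ z = c • 1 := by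
      apply schur
      intro b
      rw [← map_mul, ← map_mul, (Subgroup.mem_center_iff.1 hz (b : G))]
    obtain ⟨i, rfl⟩ : ∃ i : ℕ, u = x ^ i := by
      have h2 : u ∈ Submonoid.powers x := mem_powers_iff_mem_zpowers.2 hu
      obtain ⟨i, hi⟩ := (Submonoid.mem_powers_iff _ _).1 h2
      exact ⟨i, hi.symm⟩
    have hcomm : Commute (ρ x ^ i) φ := (show Commute (ρ x) φ from hφ).pow_left i
    rw [map_mul, hc, map_pow, mul_smul_comm, mul_one, smul_mul_assoc, hcomm.eq, mul_smul_comm]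
  have key : ∀ φ : Module.End K V, ρ x * φ = φ * ρ x →
      ∃ (k : ℕ) (Ψ : Module.End K V) (c : K), (k : K) ≠ 0 ∧
        c • (1 : Module.End K V)
          = (k : K) • φ + ∑ i ∈ range (p ^ n), ρ x ^ i * Ψ * ρ x⁻¹ ^ i := by
    intro φ hφ
    obtain ⟨k, Ψ, hk, hsum⟩ := hhc_trace_decomp p Q x n hn1 hord hCQ hcop ρ φ hφ (hφQ φ hφ)
    have hΘ : ∀ b : Q, (∑ a : Q, ρ (a : G) * φ * ρ (a : G)⁻¹) * ρ (b : G)
        = ρ (b : G) * (∑ a : Q, ρ (a : G) * φ * ρ (a : G)⁻¹) := by
      intro b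
      rw [Finset.sum_mul, Finset.mul_sum]
      refine (Fintype.sum_equiv (Equiv.mulLeft b) _ _ (fun a => ?_)).symm
      simp only [Equiv.coe_mulLeft, Subgroup.coe_mul, mul_inv_rev, map_mul]
      calc ρ (b : G) * (ρ (a : G) * φ * ρ (a : G)⁻¹)
          = ρ (b : G) * ρ (a : G) * φ * ρ (a : G)⁻¹ * (ρ (b : G)⁻¹ * ρ (b : G)) := by
            rw [hinvl, mul_one]; simp only [mul_assoc]
        _ = ρ (b : G) * ρ (a : G) * φ * (ρ (a : G)⁻¹ * ρ (b : G)⁻¹) * ρ (b : G) := by
            simp only [mul_assoc]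
    obtain ⟨c, hc⟩ := schur _ hΘ
    exact ⟨k, Ψ, c, hk, by rw [← hc, hsum]⟩
  have hfilt : ∀ (Ψ : Module.End K V) (j : ℕ), 1 ≤ j → ∀ v : V, ((ρ x - 1) ^ j) v = 0 →
      ∃ w : V, (∑ i ∈ range (p ^ n), ρ x ^ i * Ψ * ρ x⁻¹ ^ i) v = ((ρ x - 1) ^ (p ^ n - j)) w :=
    fun Ψ j hj v hv => tic_trace_filt (F := K) p (ρ x) (ρ x⁻¹) (hinvr x) (hinvl x) Ψ n j hj v hv
  have htx : ρ x * (ρ x - 1) = (ρ x - 1) * ρ x := by rw [mul_sub, sub_mul, mul_one, one_mul]
  have hsm1 : (ρ x - 1) ^ (s - 1) ≠ 0 := hmin (s - 1) (by omega)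
  obtain ⟨v₁, hv₁⟩ : ∃ v₁ : V, ((ρ x - 1) ^ (s - 1)) v₁ ≠ 0 := by
    by_contra hcon
    push Not at hcon
    exact hsm1 (LinearMap.ext (fun v => by rw [hcon v]; rfl))
  set z₁ : V := ((ρ x - 1) ^ (s - 1)) v₁ with hz₁
  have htz₁ : (ρ x - 1) z₁ = 0 := by
    rw [hz₁, ← Module.End.mul_apply, ← pow_succ', Nat.sub_add_cancel hspos, hs]; rfl
  refine ⟨?_, hsle, ?_⟩
  · -- s ≥ p^n - 1
    by_contra hcon
    have hs2 : s + 2 ≤ p ^ n := by omega
    obtain ⟨k, Ψ, c, hk, hrel⟩ := key (ρ x - 1) htx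
    have hpow1 : (ρ x - 1) ^ (p ^ n - 1) = 0 := by
      have : p ^ n - 1 = s + (p ^ n - 1 - s) := by omega
      rw [this, pow_add, hs, zero_mul]
    have hc0 : c = 0 := by
      have h1 := congrArg (fun f : Module.End K V => f z₁) hrel
      simp only [LinearMap.smul_apply, Module.End.one_apply, LinearMap.add_apply] at h1
      obtain ⟨w, hw⟩ := hfilt Ψ 1 le_rfl z₁ (by rw [pow_one]; exact htz₁)
      rw [hw, hpow1, htz₁, smul_zero, LinearMap.zero_apply, add_zero] at h1
      rcases smul_eq_zero.1 h1 with h | h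
      · exact h
      · exact absurd h hv₁
    have hstep : ∀ v : V, ∃ w : V, (ρ x - 1) v = ((ρ x - 1) ^ (2 : ℕ)) w := by
      intro v
      have h1 := congrArg (fun f : Module.End K V => f v) hrel
      simp only [LinearMap.smul_apply, Module.End.one_apply, LinearMap.add_apply] at h1
      obtain ⟨w, hw⟩ := hfilt Ψ s hspos v (by rw [hs]; rfl)
      rw [hw, hc0, zero_smul] at h1
      refine ⟨-((k : K)⁻¹ • ((ρ x - 1) ^ (p ^ n - s - 2)) w), ?_⟩
      have h2 : (k : K) • (ρ x - 1) v = -((ρ x - 1) ^ (p ^ n - s)) w := by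
        rw [eq_neg_iff_add_eq_zero]; exact h1.symm
      have h3 : (ρ x - 1) v = (k : K)⁻¹ • (-((ρ x - 1) ^ (p ^ n - s)) w) := by
        rw [← h2, smul_smul, inv_mul_cancel₀ hk, one_smul]
      rw [h3, map_neg, map_smul, ← Module.End.mul_apply, ← pow_add,
        show 2 + (p ^ n - s - 2) = p ^ n - s by omega, smul_neg]
    have hiter : ∀ l : ℕ, ∀ v : V, ∃ w : V, (ρ x - 1) v = ((ρ x - 1) ^ (1 + l)) w := by
      intro l
      induction l with
      | zero => intro v; exact ⟨v, by rw [add_zero, pow_one]⟩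
      | succ l ih =>
        intro v
        obtain ⟨w, hw⟩ := ih v
        obtain ⟨w', hw'⟩ := hstep w
        refine ⟨w', ?_⟩
        rw [hw, show 1 + l = l + 1 by omega, pow_add, pow_one, Module.End.mul_apply, hw',
          ← Module.End.mul_apply, ← pow_add, show l + 2 = 1 + (l + 1) by omega]
    have ht0 : ρ x - 1 = 0 := by
      refine LinearMap.ext (fun v => ?_)
      obtain ⟨w, hw⟩ := hiter (p ^ n) v
      rw [hw, show 1 + p ^ n = p ^ n + 1 by omega, pow_add, htN, zero_mul]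
      rfl
    exact hx1 (hfaith (by rw [sub_eq_zero.1 ht0, map_one]))
  · -- the case s = p^n - 1
    intro hsN
    have hpow1 : (ρ x - 1) ^ (p ^ n - 1) = 0 := by rw [← hsN]; exact hs
    have hscal : ∀ φ : Module.End K V, ρ x * φ = φ * ρ x →
        ∃ d : K, ∀ w : V, (ρ x - 1) w = 0 → φ w = d • w := by
      intro φ hφ
      obtain ⟨k, Ψ, c, hk, hrel⟩ := key φ hφ
      refine ⟨(k : K)⁻¹ * c, fun w hw => ?_⟩
      have h1 := congrArg (fun f : Module.End K V => f w) hrel
      simp only [LinearMap.smul_apply, Module.End.one_apply, LinearMap.add_apply] at h1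
      obtain ⟨w', hw'⟩ := hfilt Ψ 1 le_rfl w (by rw [pow_one]; exact hw)
      rw [hw', hpow1, LinearMap.zero_apply, add_zero] at h1
      rw [← smul_smul, h1, smul_smul, inv_mul_cancel₀ hk, one_smul]
    obtain ⟨f, hf⟩ : ∃ f : Module.Dual K V, f z₁ ≠ 0 := by
      by_contra hcon
      push Not at hcon
      exact hv₁ ((Module.forall_dual_apply_eq_zero_iff K z₁).1 hcon)
    set ℓ : V →ₗ[K] K := (f z₁)⁻¹ • f with hℓ
    have hℓz : ℓ z₁ = 1 := by
      rw [hℓ, LinearMap.smul_apply, smul_eq_mul, inv_mul_cancel₀ hf]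
    set R : Module.End K V := ℓ.smulRight v₁ with hR
    set φ : Module.End K V := ∑ i ∈ range s, (ρ x - 1) ^ i * R * (ρ x - 1) ^ (s - 1 - i) with hφ
    have hφt : (ρ x - 1) * φ = φ * (ρ x - 1) := by
      set g : ℕ → Module.End K V := fun i => (ρ x - 1) ^ i * R * (ρ x - 1) ^ (s - i) with hg
      have e1 : (ρ x - 1) * φ = ∑ i ∈ range s, g (i + 1) := by
        rw [hφ, Finset.mul_sum]
        refine Finset.sum_congr rfl (fun i hi => ?_)
        simp only [hg]
        rw [← mul_assoc, ← mul_assoc, ← pow_succ', show s - 1 - i = s - (i + 1) by omega]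
      have e2 : φ * (ρ x - 1) = ∑ i ∈ range s, g i := by
        rw [hφ, Finset.sum_mul]
        refine Finset.sum_congr rfl (fun i hi => ?_)
        have hi' := Finset.mem_range.1 hi
        simp only [hg]
        rw [mul_assoc, ← pow_succ, show s - 1 - i + 1 = s - i by omega]
      have e3 : ∑ i ∈ range s, g (i + 1) + g 0 = ∑ i ∈ range s, g i + g s := by
        rw [← Finset.sum_range_succ' g s, Finset.sum_range_succ g s]
      have g0 : g 0 = 0 := by simp only [hg]; rw [Nat.sub_zero, hs, mul_zero]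
      have gs : g s = 0 := by simp only [hg]; rw [hs, zero_mul, zero_mul]
      rw [e1, e2]
      rw [g0, gs, add_zero, add_zero] at e3
      exact e3
    have hφx : ρ x * φ = φ * ρ x := by
      calc ρ x * φ = ((ρ x - 1) + 1) * φ := by rw [sub_add_cancel]
        _ = φ * ((ρ x - 1) + 1) := by rw [add_mul, mul_add, hφt, one_mul, mul_one]
        _ = φ * ρ x := by rw [sub_add_cancel]
    have hφker : ∀ w : V, (ρ x - 1) w = 0 → φ w = ℓ w • z₁ := by
      intro w hw
      rw [hφ, LinearMap.sum_apply, Finset.sum_eq_single (s - 1)]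
      · rw [Module.End.mul_apply, Module.End.mul_apply, show s - 1 - (s - 1) = 0 by omega, pow_zero,
          Module.End.one_apply, hR, LinearMap.smulRight_apply, map_smul]
      · intro i hi hne
        have hi' := Finset.mem_range.1 hi
        rw [Module.End.mul_apply, Module.End.mul_apply]
        have : s - 1 - i = (s - 1 - i - 1) + 1 := by omega
        rw [this, pow_succ, Module.End.mul_apply, hw, map_zero, map_zero, map_zero]
      · intro h
        exact absurd (Finset.mem_range.2 (by omega)) h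
    obtain ⟨d, hd⟩ := hscal φ hφx
    have hd1 : d = 1 := by
      have h1 := hd z₁ htz₁
      rw [hφker z₁ htz₁, hℓz, one_smul] at h1
      have h2 : (1 - d) • z₁ = 0 := by rw [sub_smul, one_smul, ← h1, sub_self]
      rcases smul_eq_zero.1 h2 with h | h
      · exact (sub_eq_zero.1 h).symm
      · exact absurd h hv₁
    have hker : ∀ w : V, (ρ x - 1) w = 0 → w = ℓ w • z₁ := by
      intro w hw
      have h1 := hd w hw
      rw [hφker w hw, hd1, one_smul] at h1
      exact h1.symm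
    have hspan : ∀ j : ℕ, j ≤ s → ∀ w : V, ((ρ x - 1) ^ j) w = 0 →
        w ∈ Submodule.span K (Set.range (fun i : Fin s => ((ρ x - 1) ^ (i : ℕ)) v₁)) := by
      intro j
      induction j with
      | zero =>
        intro _ w hw
        rw [pow_zero, Module.End.one_apply] at hw
        rw [hw]; exact Submodule.zero_mem _
      | succ j ih =>
        intro hj w hw
        have h1 : (ρ x - 1) (((ρ x - 1) ^ j) w) = 0 := by
          rw [← Module.End.mul_apply, ← pow_succ']; exact hw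
        have h2 := hker _ h1
        have h3 : ((ρ x - 1) ^ j) (w - ℓ (((ρ x - 1) ^ j) w) • ((ρ x - 1) ^ (s - 1 - j)) v₁) = 0 := by
          rw [map_sub, map_smul, ← Module.End.mul_apply, ← pow_add,
            show j + (s - 1 - j) = s - 1 by omega, ← hz₁, ← h2, sub_self]
        have h4 := ih (by omega) _ h3
        have h5 : ((ρ x - 1) ^ (s - 1 - j)) v₁
            ∈ Submodule.span K (Set.range (fun i : Fin s => ((ρ x - 1) ^ (i : ℕ)) v₁)) :=
          Submodule.subset_span ⟨⟨s - 1 - j, by omega⟩, rfl⟩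
        have h6 := Submodule.add_mem _ h4 (Submodule.smul_mem _ (ℓ (((ρ x - 1) ^ j) w)) h5)
        rwa [sub_add_cancel] at h6
    have htop : Submodule.span K (Set.range (fun i : Fin s => ((ρ x - 1) ^ (i : ℕ)) v₁)) = ⊤ :=
      eq_top_iff.2 (fun w _ => hspan s le_rfl w (by rw [hs]; rfl))
    have hfr_le : Module.finrank K V ≤ s := by
      have h := finrank_range_le_card (R := K) (fun i : Fin s => ((ρ x - 1) ^ (i : ℕ)) v₁)
      rw [Set.finrank, htop, finrank_top, Fintype.card_fin] at h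
      exact h
    have hnil : IsNilpotent (ρ x - 1) := ⟨s, hs⟩
    have hfin0 : (ρ x - 1) ^ (Module.finrank K V) = 0 := by
      have h3 := IsNilpotent.charpoly_eq_X_pow_finrank hnil
      have h4 := LinearMap.aeval_self_charpoly (ρ x - 1)
      rw [h3] at h4
      simpa using h4
    have hfr_ge : s ≤ Module.finrank K V := by
      by_contra hcon
      exact hmin _ (by omega) hfin0
    have hfr : Module.finrank K V = s := le_antisymm hfr_le hfr_ge
    refine ⟨?_, ?_⟩
    · obtain ⟨b, hb⟩ := pgi_finrank_eq_pow q (Nat.card Q) Q rfl hQ V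
        ((ρ : G →* Module.End K V).comp Q.subtype)
        (fun W hW => hirr W (fun g hg => hW ⟨g, hg⟩))
      exact ⟨b, by rw [← hsN, ← hfr, hb]⟩
    · intro hcomm
      have hsc : ∀ a : Q, ∃ c : K, ρ (a : G) = c • 1 := by
        intro a
        apply schur
        intro b
        rw [← map_mul, ← map_mul]
        have := congrArg Subtype.val (hcomm.is_comm.comm a b)
        simp only [Subgroup.coe_mul] at this
        rw [this]
      obtain ⟨v, hv⟩ := exists_ne (0 : V)
      have hinv : ∀ g ∈ Q, (Submodule.span K {v}).map (ρ g) ≤ Submodule.span K {v} := by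
        intro g hg
        obtain ⟨c, hc⟩ := hsc ⟨g, hg⟩
        simp only at hc
        rw [Submodule.map_span, Set.image_singleton, hc, Submodule.span_le,
          Set.singleton_subset_iff, LinearMap.smul_apply, Module.End.one_apply]
        exact Submodule.smul_mem _ _ (Submodule.mem_span_singleton_self v)
      rcases hirr _ hinv with h | h
      · exact absurd ((Submodule.span_singleton_eq_bot).1 h) hv
      · have h1 : Module.finrank K V = 1 := by
          rw [← finrank_top K V, ← h, finrank_span_singleton hv]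
        have hs1 : s = 1 := by omega
        rw [hs1, pow_one] at hs
        exact hx1 (hfaith (by rw [sub_eq_zero.1 hs, map_one]))

end Cfsg.Agent.Helper67
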