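import Mathlib

/-!
CALL LM piece COUNT (double by helper67): one automorphism moving every element outside an
index-`p` subgroup `M ≥ Z(G)` to a non-conjugate element gives at most `|G|/p` automorphism orbits.
-/

set_option autoImplicit false

namespace Cfsg.Agent.Helper67.LM

/-- a non-central element has at least `p` conjugates, `p` the least prime divisor of `|G|`. -/
theorem lm_class_card67 {G : Type*} [Group G] [Fintype G] [DecidableEq G] (g : G)
    (hg : g ∉ Subgroup.center G) [DecidablePred fun y : G => IsConj g y] :
    (Nat.card G).minFac ≤ (Finset.univ.filter (fun y : G => IsConj g y)).card := by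
  classical
  have h1 : (MulAction.stabilizer (ConjAct G) g).index = (MulAction.orbit (ConjAct G) g).ncard :=
    MulAction.index_stabilizer (ConjAct G) g
  have h2 : (MulAction.orbit (ConjAct G) g).ncard
      = (Finset.univ.filter (fun y : G => IsConj g y)).card := by
    rw [← Set.ncard_coe_finset]
    congr 1
    ext y
    rw [ConjAct.mem_orbit_conjAct]
    simp only [Finset.coe_filter, Finset.mem_univ, true_and, Set.mem_ofPred_eq]
    exact isConj_comm
  have h3 : (MulAction.stabilizer (ConjAct G) g).index ∣ Nat.card G := by
    have := Subgroup.index_dvd_card (MulAction.stabilizer (ConjAct G) g)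
    rwa [Nat.card_congr (ConjAct.toConjAct (G := G)).toEquiv.symm] at this
  have h4 : (MulAction.stabilizer (ConjAct G) g).index ≠ 1 := by
    intro h
    rw [Subgroup.index_eq_one] at h
    apply hg
    rw [Subgroup.mem_center_iff]
    intro a
    have ha : ConjAct.toConjAct a ∈ MulAction.stabilizer (ConjAct G) g := by
      rw [h]; exact Subgroup.mem_top _
    rw [MulAction.mem_stabilizer_iff, ConjAct.toConjAct_smul] at ha
    calc a * g = a * g * a⁻¹ * a := by group
      _ = g * a := by rw [ha]
  have h5 : 0 < (MulAction.stabilizer (ConjAct G) g).index :=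
    Nat.pos_of_dvd_of_pos h3 Nat.card_pos
  rw [← h2, ← h1]
  exact Nat.minFac_le_of_dvd (by omega) h3

/-- COUNT: one automorphism moving every element outside an index-`p` subgroup `M ≥ Z(G)` to a
non-conjugate element gives at most `|G|/p` orbits. -/
theorem lm_count {G : Type*} [Group G] [Finite G] (hna : ¬ IsMulCommutative G)
    (σ : MulAut G) (M : Subgroup G) (hM : M.index = (Nat.card G).minFac)
    (hZM : Subgroup.center G ≤ M) (hσ : ∀ g : G, g ∉ M → ¬ IsConj g (σ g)) :
    Nat.card (MulAction.orbitRel.Quotient (MulAut G) G) ≤ Nat.card G / (Nat.card G).minFac := by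
  classical
  letI := Fintype.ofFinite G
  letI : Fintype (MulAction.orbitRel.Quotient (MulAut G) G) := Fintype.ofFinite _
  set n := Nat.card G with hn
  set p := n.minFac with hp
  have hnpos : 0 < n := Nat.card_pos
  have hn1 : n ≠ 1 := by
    intro h1
    apply hna
    have hss : Subsingleton G := (Nat.card_eq_one_iff_unique.mp h1).1
    exact ⟨⟨fun a b => Subsingleton.elim _ _⟩⟩
  have hpp : p.Prime := Nat.minFac_prime hn1
  have hp2 : 2 ≤ p := hpp.two_le
  -- sizes
  have hMcard : p * Nat.card M = n := by rw [← hM]; exact Subgroup.index_mul_card M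
  have hZcard : (Subgroup.center G).index * Nat.card (Subgroup.center G) = n :=
    Subgroup.index_mul_card _
  have hk1 : (Subgroup.center G).index ≠ 1 := by
    intro h
    rw [Subgroup.index_eq_one] at h
    apply hna
    refine ⟨⟨fun a b => ?_⟩⟩
    have hb : b ∈ Subgroup.center G := by rw [h]; exact Subgroup.mem_top b
    exact (Subgroup.mem_center_iff.mp hb) a
  have hkdvd : (Subgroup.center G).index ∣ n := Subgroup.index_dvd_card _
  have hkpos : 0 < (Subgroup.center G).index := Nat.pos_of_dvd_of_pos hkdvd hnpos
  have hknp : ¬ (Subgroup.center G).index.Prime := by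
    intro hprime
    apply hna
    haveI : Fact (Subgroup.center G).index.Prime := ⟨hprime⟩
    haveI : IsCyclic (G ⧸ Subgroup.center G) :=
      isCyclic_of_prime_card (p := (Subgroup.center G).index) (by rw [Subgroup.index])
    exact isMulCommutative_of_isCyclic_quotient_center_self G
  have hk2p : 2 * p ≤ (Subgroup.center G).index := by
    have h1 := Nat.minFac_sq_le_self hkpos hknp
    have h2 : p ≤ (Subgroup.center G).index.minFac :=
      Nat.minFac_le_of_dvd (Nat.minFac_prime hk1).two_le
        ((Nat.minFac_dvd _).trans hkdvd)
    nlinarith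
  have hzle : 2 * Nat.card (Subgroup.center G) ≤ Nat.card M := by
    have h1 : 2 * p * Nat.card (Subgroup.center G) ≤ p * Nat.card M := by
      rw [hMcard, ← hZcard]
      exact Nat.mul_le_mul_right _ hk2p
    have h2 : p * (2 * Nat.card (Subgroup.center G)) ≤ p * Nat.card M := by
      calc p * (2 * Nat.card (Subgroup.center G)) = 2 * p * Nat.card (Subgroup.center G) := by ring
        _ ≤ _ := h1
    exact Nat.le_of_mul_le_mul_left h2 hpp.pos
  -- the weight
  let w : G → ℕ := fun g => 1 + (if g ∈ M then 1 else 0)
    + (if g ∈ Subgroup.center G then 2 * p - 2 else 0)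
  have hw1 : ∀ g, 1 ≤ w g := fun g => by simp only [w]; omega
  have hwM : ∀ g, g ∈ M → 2 ≤ w g := fun g hg => by simp only [w, if_pos hg]; omega
  have hwZ : ∀ g, g ∈ Subgroup.center G → 2 * p ≤ w g := fun g hg => by
    simp only [w, if_pos hg, if_pos (hZM hg)]; omega
  have hwsum : ∑ g : G, w g = n + Nat.card M + (2 * p - 2) * Nat.card (Subgroup.center G) := by
    simp only [w, Finset.sum_add_distrib, Finset.sum_const, Finset.card_univ, smul_eq_mul,
      mul_one]
    rw [Finset.sum_boole, ← Finset.sum_filter, Finset.sum_const, smul_eq_mul]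
    have e1 : (Finset.univ.filter (fun g : G => g ∈ M)).card = Nat.card M := by
      rw [Nat.card_eq_fintype_card, Fintype.card_subtype]
    have e2 : (Finset.univ.filter (fun g : G => g ∈ Subgroup.center G)).card
        = Nat.card (Subgroup.center G) := by
      rw [Nat.card_eq_fintype_card, Fintype.card_subtype]
    rw [e1, e2, hn, Nat.card_eq_fintype_card]
    simp [mul_comm]
  -- fibrewise
  let q : G → MulAction.orbitRel.Quotient (MulAut G) G := Quotient.mk''
  have hq : ∀ (τ : MulAut G) (g : G), q (τ g) = q g := by
    intro τ g
    apply Quotient.sound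
    show MulAction.orbitRel (MulAut G) G (τ g) g
    rw [MulAction.orbitRel_apply]
    exact ⟨τ, rfl⟩
  have hqc : ∀ g y : G, IsConj g y → q y = q g := by
    intro g y hgy
    obtain ⟨c, hc⟩ := isConj_iff.mp hgy
    rw [← hc]
    exact hq (MulAut.conj c) g
  have hfib := Finset.sum_fiberwise (Finset.univ : Finset G) q w
  have hbound : ∀ ω : MulAction.orbitRel.Quotient (MulAut G) G,
      2 * p ≤ ∑ g ∈ Finset.univ.filter (fun g => q g = ω), w g := by
    intro ω
    obtain ⟨g₀, hg₀⟩ := Quotient.exists_rep ω
    have hg₀' : q g₀ = ω := hg₀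
    by_cases hcase : ∃ g, q g = ω ∧ g ∈ Subgroup.center G
    · obtain ⟨g, hgq, hgZ⟩ := hcase
      have hmem : g ∈ Finset.univ.filter (fun g => q g = ω) := by simp [hgq]
      exact (hwZ g hgZ).trans
        (Finset.single_le_sum (f := w) (fun _ _ => Nat.zero_le _) hmem)
    · push Not at hcase
      by_cases hcase2 : ∃ g, q g = ω ∧ g ∉ M
      · obtain ⟨g, hgq, hgM⟩ := hcase2
        have hgZ : g ∉ Subgroup.center G := hcase g hgq
        have hσq : q (σ g) = ω := (hq σ g).trans hgq
        have hσZ : σ g ∉ Subgroup.center G := hcase (σ g) hσq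
        have hc1 : p ≤ _ := lm_class_card67 g hgZ
        have hc2 : p ≤ _ := lm_class_card67 (σ g) hσZ
        have hdisj : Disjoint (Finset.univ.filter (fun y : G => IsConj g y))
            (Finset.univ.filter (fun y : G => IsConj (σ g) y)) := by
          rw [Finset.disjoint_left]
          intro y hy1 hy2
          simp only [Finset.mem_filter, Finset.mem_univ, true_and] at hy1 hy2
          exact hσ g hgM (hy1.trans hy2.symm)
        have hsub : (Finset.univ.filter (fun y : G => IsConj g y))
            ∪ (Finset.univ.filter (fun y : G => IsConj (σ g) y))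
            ⊆ Finset.univ.filter (fun g => q g = ω) := by
          intro y hy
          simp only [Finset.mem_union, Finset.mem_filter, Finset.mem_univ, true_and] at hy ⊢
          rcases hy with hy | hy
          · exact (hqc g y hy).trans hgq
          · exact (hqc (σ g) y hy).trans hσq
        calc 2 * p ≤ ((Finset.univ.filter (fun y : G => IsConj g y))
              ∪ (Finset.univ.filter (fun y : G => IsConj (σ g) y))).card := by
              rw [Finset.card_union_of_disjoint hdisj]; omega
          _ = ∑ _y ∈ ((Finset.univ.filter (fun y : G => IsConj g y))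
              ∪ (Finset.univ.filter (fun y : G => IsConj (σ g) y))), 1 := by simp
          _ ≤ ∑ y ∈ ((Finset.univ.filter (fun y : G => IsConj g y))
              ∪ (Finset.univ.filter (fun y : G => IsConj (σ g) y))), w y :=
              Finset.sum_le_sum (fun y _ => hw1 y)
          _ ≤ _ := Finset.sum_le_sum_of_subset hsub
      · push Not at hcase2
        have hgZ : g₀ ∉ Subgroup.center G := hcase g₀ hg₀'
        have hc1 : p ≤ _ := lm_class_card67 g₀ hgZ
        have hsub : (Finset.univ.filter (fun y : G => IsConj g₀ y))
            ⊆ Finset.univ.filter (fun g => q g = ω) := by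
          intro y hy
          simp only [Finset.mem_filter, Finset.mem_univ, true_and] at hy ⊢
          exact (hqc g₀ y hy).trans hg₀'
        calc 2 * p ≤ 2 * (Finset.univ.filter (fun y : G => IsConj g₀ y)).card := by omega
          _ = ∑ _y ∈ (Finset.univ.filter (fun y : G => IsConj g₀ y)), 2 := by
              rw [Finset.sum_const, smul_eq_mul, mul_comm]
          _ ≤ ∑ y ∈ (Finset.univ.filter (fun y : G => IsConj g₀ y)), w y := by
              apply Finset.sum_le_sum
              intro y hy
              simp only [Finset.mem_filter, Finset.mem_univ, true_and] at hy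
              exact hwM y (hcase2 y ((hqc g₀ y hy).trans hg₀'))
          _ ≤ _ := Finset.sum_le_sum_of_subset hsub
  have htotal : Fintype.card (MulAction.orbitRel.Quotient (MulAut G) G) * (2 * p)
      ≤ ∑ g : G, w g := by
    rw [← hfib]
    calc Fintype.card (MulAction.orbitRel.Quotient (MulAut G) G) * (2 * p)
        = ∑ _ω : MulAction.orbitRel.Quotient (MulAut G) G, 2 * p := by
          rw [Finset.sum_const, Finset.card_univ, smul_eq_mul]
      _ ≤ _ := Finset.sum_le_sum (fun ω _ => hbound ω)
  rw [hwsum] at htotal
  rw [Nat.card_eq_fintype_card]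
  have hdiv : n / p = Nat.card M := by
    rw [← hMcard]; exact Nat.mul_div_cancel_left _ hpp.pos
  rw [hdiv]
  -- arithmetic
  have ha : (2 * p - 2) * Nat.card (Subgroup.center G) ≤ (p - 1) * Nat.card M := by
    have : (2 * p - 2) = (p - 1) * 2 := by omega
    rw [this, mul_assoc]
    exact Nat.mul_le_mul_left _ hzle
  have hb : (p - 1) * Nat.card M + Nat.card M = p * Nat.card M := by
    have : p = (p - 1) + 1 := by omega
    nth_rewrite 2 [this]
    ring
  have hfin : Fintype.card (MulAction.orbitRel.Quotient (MulAut G) G) * (2 * p)
      ≤ Nat.card M * (2 * p) := by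
    calc _ ≤ n + Nat.card M + (2 * p - 2) * Nat.card (Subgroup.center G) := htotal
      _ ≤ n + Nat.card M + (p - 1) * Nat.card M := Nat.add_le_add_left ha _
      _ = n + p * Nat.card M := by omega
      _ = Nat.card M * (2 * p) := by rw [hMcard]; rw [← hMcard]; ring
  exact Nat.le_of_mul_le_mul_right hfin (by omega)

end Cfsg.Agent.Helper67.LM
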