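import Mathlib

set_option autoImplicit false

open Matrix

universe u

namespace Cfsg.Agent.Helper67

open Polynomial in
/-- Two polynomial identities: `p` and `(X - 1)^(p-1)` generate the same ideal modulo
`1 + X + ... + X^(p-1)`. -/
theorem lat_poly (p : ℕ) [hp : Fact p.Prime] :
    ∃ U Q W V : ℤ[X],
      (X - 1) ^ (p - 1) * U + (∑ i ∈ Finset.range p, X ^ i) * Q = C (p : ℤ) ∧
      C (p : ℤ) * W + (∑ i ∈ Finset.range p, X ^ i) * V = (X - 1) ^ (p - 1) := by
  have hA : ∃ W0 : ℤ[X], (X - 1) ^ (p - 1) = (∑ i ∈ Finset.range p, X ^ i) + C (p : ℤ) * W0 := by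
    have hdvd : C (p : ℤ) ∣ (X - 1 : ℤ[X]) ^ (p - 1) - ∑ i ∈ Finset.range p, X ^ i := by
      rw [Polynomial.C_dvd_iff_dvd_coeff]
      intro i
      rw [← ZMod.intCast_zmod_eq_zero_iff_dvd]
      have hmap : Polynomial.map (Int.castRingHom (ZMod p))
          ((X - 1 : ℤ[X]) ^ (p - 1) - ∑ i ∈ Finset.range p, X ^ i) = 0 := by
        simp only [Polynomial.map_sub, Polynomial.map_pow, Polynomial.map_X, Polynomial.map_one,
          Polynomial.map_sum]
        have h1 : (X - 1 : (ZMod p)[X]) *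
            ((X - 1) ^ (p - 1) - ∑ i ∈ Finset.range p, X ^ i) = 0 := by
          rw [mul_sub, mul_geom_sum, ← pow_succ', Nat.sub_add_cancel hp.out.one_le,
            sub_pow_char, one_pow, sub_self]
        rcases mul_eq_zero.mp h1 with h2 | h2
        · exfalso
          exact (Polynomial.X_sub_C_ne_zero (1 : ZMod p)) (by simpa using h2)
        · exact h2
      have h3 : (Polynomial.map (Int.castRingHom (ZMod p))
          ((X - 1 : ℤ[X]) ^ (p - 1) - ∑ i ∈ Finset.range p, X ^ i)).coeff i = 0 := by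
        rw [hmap]; simp
      rw [Polynomial.coeff_map] at h3
      simpa using h3
    obtain ⟨W0, hW0⟩ := hdvd
    exact ⟨W0, by rw [← hW0]; ring⟩
  obtain ⟨W0, hW0⟩ := hA
  -- G := -W0 has value 1 at 1
  have hp1 : 1 ≤ p - 1 := by have := hp.out.two_le; omega
  have hev : Polynomial.eval 1 W0 = -1 := by
    have h1 := congrArg (Polynomial.eval 1) hW0
    simp only [Polynomial.eval_pow, Polynomial.eval_sub, Polynomial.eval_X, Polynomial.eval_one,
      sub_self, Polynomial.eval_add, Polynomial.eval_finsetSum, one_pow, Finset.sum_const,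
      Finset.card_range, Polynomial.eval_mul, Polynomial.eval_C, nsmul_eq_mul, mul_one] at h1
    rw [zero_pow (by omega)] at h1
    have hp0 : (p : ℤ) ≠ 0 := by exact_mod_cast hp.out.ne_zero
    have h2 : (p : ℤ) * (1 + Polynomial.eval 1 W0) = 0 := by linarith
    rcases mul_eq_zero.mp h2 with h3 | h3
    · exact absurd h3 hp0
    · linarith
  have hroot : (X - C (1 : ℤ)) ∣ (W0 + 1) := by
    rw [Polynomial.dvd_iff_isRoot]
    simp [Polynomial.IsRoot, hev]
  obtain ⟨G1, hG1⟩ := hroot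
  have hG1' : W0 = (X - 1) * G1 - 1 := by
    have : (X - C (1 : ℤ)) = (X - 1 : ℤ[X]) := by simp
    rw [this] at hG1
    linear_combination hG1
  -- z := (X - 1) * G1 ; W0 = z - 1 ; Φ = Y^(p-1) + p * (1 - z)
  have hgeom := mul_neg_geom_sum ((X - 1 : ℤ[X]) * G1) (p - 1)
  refine ⟨C (p : ℤ) * G1 ^ (p - 1) - ∑ i ∈ Finset.range (p - 1), ((X - 1 : ℤ[X]) * G1) ^ i,
    ∑ i ∈ Finset.range (p - 1), ((X - 1 : ℤ[X]) * G1) ^ i, W0, 1, ?_, ?_⟩
  · rw [mul_pow] at hgeom
    rw [hG1'] at hW0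
    linear_combination (-(∑ i ∈ Finset.range (p - 1), ((X - 1 : ℤ[X]) * G1) ^ i)) * hW0
      + C (p : ℤ) * hgeom
  · rw [hW0]; ring

/-- Index of the image of an injective endomorphism of a sublattice, as a determinant. -/
theorem lat_index_det {M : Type*} [AddCommGroup M] [Module.Free ℤ M] [Module.Finite ℤ M]
    (A : Submodule ℤ M) (h : M →ₗ[ℤ] M) (hA : ∀ v ∈ A, h v ∈ A)
    (hinj : ∀ v ∈ A, h v = 0 → v = 0) :
    (A.map h).toAddSubgroup.relIndex A.toAddSubgroup =
      (LinearMap.det (h.restrict hA)).natAbs := by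
  have hginj : Function.Injective (h.restrict hA) := by
    rw [← LinearMap.ker_eq_bot, LinearMap.ker_eq_bot']
    intro v hv
    have h1 : h v = 0 := by
      have h2 := congrArg Subtype.val hv
      simpa using h2
    exact Subtype.ext (hinj v v.2 h1)
  have h1 := Submodule.natAbs_det_equiv (LinearMap.range (h.restrict hA))
    (LinearEquiv.ofInjective (h.restrict hA) hginj).toAddEquiv
  have h2 : (LinearMap.range (h.restrict hA)).subtype ∘ₗ
      (AddMonoidHom.toIntLinearMap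
        (((LinearEquiv.ofInjective (h.restrict hA) hginj).toAddEquiv :
          A ≃+ LinearMap.range (h.restrict hA)) : A →+ LinearMap.range (h.restrict hA)))
      = h.restrict hA := by
    ext v; rfl
  rw [h2] at h1
  rw [h1]
  have hι : Function.Injective (A.subtype.toAddMonoidHom) := Subtype.val_injective
  have e1 : (LinearMap.range (h.restrict hA)).toAddSubgroup.map A.subtype.toAddMonoidHom
      = (A.map h).toAddSubgroup := by
    ext v
    constructor
    · rintro ⟨w, ⟨u, rfl⟩, rfl⟩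
      exact ⟨u, u.2, rfl⟩
    · rintro ⟨u, hu, rfl⟩
      exact ⟨h.restrict hA ⟨u, hu⟩, ⟨⟨u, hu⟩, rfl⟩, rfl⟩
  have e2 : (⊤ : AddSubgroup A).map A.subtype.toAddMonoidHom = A.toAddSubgroup := by
    ext v
    constructor
    · rintro ⟨w, -, rfl⟩; exact w.2
    · intro hv; exact ⟨⟨v, hv⟩, trivial, rfl⟩
  rw [← e1, ← e2, AddSubgroup.relIndex_map_map_of_injective _ _ hι, AddSubgroup.relIndex_top_right]
  rfl

/-- Index chase for two endomorphisms with `f ∘ N = 0 = N ∘ f` and `ker f ∩ ker N = 0`. -/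
theorem lat_chase {M : Type*} [AddCommGroup M] (f N : M →+ M)
    (hfN : ∀ v, f (N v) = 0) (hNf : ∀ v, N (f v) = 0)
    (hdisj : ∀ v, f v = 0 → N v = 0 → v = 0) :
    ∃ u : ℕ, (f.ker.map N).relIndex f.ker = u * N.range.relIndex f.ker ∧
      (f.range.map f).relIndex f.range = f.range.relIndex N.ker * u := by
  have hR1K1 : N.range ≤ f.ker := by
    rintro _ ⟨v, rfl⟩
    exact AddMonoidHom.mem_ker.mpr (hfN v)
  have hR0K0 : f.range ≤ N.ker := by
    rintro _ ⟨v, rfl⟩
    exact AddMonoidHom.mem_ker.mpr (hNf v)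
  have c1 := AddSubgroup.relIndex_mul_relIndex (f.ker.map N) N.range f.ker
    (AddSubgroup.map_le_range N f.ker) hR1K1
  have c2 := AddSubgroup.relIndex_mul_relIndex (f.range.map f) (N.ker.map f) f.range
    (AddSubgroup.map_mono hR0K0) (AddSubgroup.map_le_range f N.ker)
  have c3 : (f.range.map f).relIndex (N.ker.map f) = f.range.relIndex N.ker := by
    rw [← AddSubgroup.relIndex_comap, ← AddSubgroup.inf_relIndex_right ((f.range.map f).comap f)
      N.ker, ← AddSubgroup.inf_relIndex_right f.range N.ker]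
    congr 1
    ext v
    constructor
    · rintro ⟨h1, h2⟩
      refine ⟨?_, h2⟩
      obtain ⟨w, hw, hwv⟩ := h1
      have h3 : v - w = 0 := by
        apply hdisj
        · rw [map_sub, hwv, sub_self]
        · rw [map_sub, AddMonoidHom.mem_ker.mp h2, AddMonoidHom.mem_ker.mp (hR0K0 hw), sub_self]
      rw [sub_eq_zero.mp h3]
      exact hw
    · rintro ⟨h1, h2⟩
      exact ⟨⟨v, h1, rfl⟩, h2⟩
  have c4 : (N.ker.map f).relIndex f.range = (f.ker.map N).relIndex N.range := by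
    rw [AddMonoidHom.range_eq_map f, AddMonoidHom.range_eq_map N, ← AddSubgroup.relIndex_comap,
      ← AddSubgroup.relIndex_comap, AddSubgroup.comap_map_eq, AddSubgroup.comap_map_eq, sup_comm]
  refine ⟨(f.ker.map N).relIndex N.range, c1.symm, ?_⟩
  rw [← c2, c3, c4]

theorem lat_arith (p : ℕ) (hp : p.Prime) (A1 B1 u r c : ℕ) (h1 : u * A1 = p ^ r)
    (h2 : B1 * u = p ^ c) :
    ∃ a b : ℕ, A1 = p ^ a ∧ B1 = p ^ b ∧ (a : ℤ) - b = (r : ℤ) - c := by
  obtain ⟨a, -, ha⟩ := (Nat.dvd_prime_pow hp).mp (Dvd.intro_left u h1)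
  obtain ⟨w, -, hw⟩ := (Nat.dvd_prime_pow hp).mp (Dvd.intro A1 h1)
  obtain ⟨b, -, hb⟩ := (Nat.dvd_prime_pow hp).mp (Dvd.intro u h2)
  subst ha hw hb
  rw [← pow_add] at h1 h2
  have e1 := Nat.pow_right_injective hp.two_le h1
  have e2 := Nat.pow_right_injective hp.two_le h2
  exact ⟨a, b, rfl, rfl, by omega⟩

/-- The determinant of `x - 1` on a lattice killed by `1 + x + ... + x^(p-1)`. -/
theorem lat_det_sub_one {A : Type*} [AddCommGroup A] [Module.Free ℤ A] [Module.Finite ℤ A]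
    (p : ℕ) [hp : Fact p.Prime] (y : A →ₗ[ℤ] A) (hy : ∑ i ∈ Finset.range p, y ^ i = 0) :
    ∃ c : ℕ, (LinearMap.det (y - 1)).natAbs = p ^ c ∧ c * (p - 1) = Module.finrank ℤ A := by
  obtain ⟨U, Q, W, V, h1, h2⟩ := lat_poly p
  have e1 := congrArg (Polynomial.aeval y) h1
  have e2 := congrArg (Polynomial.aeval y) h2
  simp only [map_add, map_mul, map_pow, map_sub, Polynomial.aeval_X, map_one, map_sum, hy,
    zero_mul, add_zero, Polynomial.aeval_C] at e1 e2
  have hpe : (algebraMap ℤ (Module.End ℤ A)) (p : ℤ) = (p : ℤ) • (1 : Module.End ℤ A) := by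
    rw [Algebra.algebraMap_eq_smul_one]
  rw [hpe] at e1 e2
  have d1 := congrArg LinearMap.det e1
  have d2 := congrArg LinearMap.det e2
  rw [map_mul, map_pow, LinearMap.det_smul, map_one, mul_one] at d1
  rw [map_mul, map_pow, LinearMap.det_smul, map_one, mul_one] at d2
  have n1 : (LinearMap.det (y - 1)).natAbs ^ (p - 1) ∣ p ^ Module.finrank ℤ A := by
    have h3 : (LinearMap.det (y - 1)) ^ (p - 1) ∣ (p : ℤ) ^ Module.finrank ℤ A :=
      Dvd.intro _ d1
    have h4 := Int.natAbs_dvd_natAbs.mpr h3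
    rwa [Int.natAbs_pow, Int.natAbs_pow, Int.natAbs_natCast] at h4
  have n2 : p ^ Module.finrank ℤ A ∣ (LinearMap.det (y - 1)).natAbs ^ (p - 1) := by
    have h3 : (p : ℤ) ^ Module.finrank ℤ A ∣ (LinearMap.det (y - 1)) ^ (p - 1) :=
      Dvd.intro _ d2
    have h4 := Int.natAbs_dvd_natAbs.mpr h3
    rwa [Int.natAbs_pow, Int.natAbs_pow, Int.natAbs_natCast] at h4
  have n3 := Nat.dvd_antisymm n1 n2
  have hp1 : 1 ≤ p - 1 := by have := hp.out.two_le; omega
  have n4 : (LinearMap.det (y - 1)).natAbs ∣ p ^ Module.finrank ℤ A := by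
    rw [← n3]; exact dvd_pow_self _ (by omega)
  obtain ⟨c, -, hc⟩ := (Nat.dvd_prime_pow hp.out).mp n4
  refine ⟨c, hc, ?_⟩
  rw [hc, ← pow_mul] at n3
  exact Nat.pow_right_injective hp.out.two_le n3

/-- Herbrand quotient of a `ℤ[C_p]`-lattice in terms of the trace of a generator. -/
theorem lat_herbrand_abs {M : Type*} [AddCommGroup M] [Module.Free ℤ M] [Module.Finite ℤ M]
    (p : ℕ) [hp : Fact p.Prime] (x : M →ₗ[ℤ] M) (hx : x ^ p = 1) (t : ℤ)
    (ht : ∀ k ∈ Finset.Ico 1 p, LinearMap.trace ℤ M (x ^ k) = t) :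
    ∃ a b : ℕ,
      (LinearMap.range (∑ i ∈ Finset.range p, x ^ i)).toAddSubgroup.relIndex
          (LinearMap.ker (x - 1)).toAddSubgroup = p ^ a ∧
      (LinearMap.range (x - 1)).toAddSubgroup.relIndex
          (LinearMap.ker (∑ i ∈ Finset.range p, x ^ i)).toAddSubgroup = p ^ b ∧
      (a : ℤ) - b = t := by
  have hp2 := hp.out.two_le
  have hp0 : (p : ℤ) ≠ 0 := by exact_mod_cast hp.out.ne_zero
  have hfN : (x - 1) * (∑ i ∈ Finset.range p, x ^ i) = 0 := by
    rw [mul_geom_sum, hx, sub_self]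
  have hNf : (∑ i ∈ Finset.range p, x ^ i) * (x - 1) = 0 := by
    rw [geom_sum_mul, hx, sub_self]
  have hfN' : ∀ v, (x - 1) ((∑ i ∈ Finset.range p, x ^ i) v) = 0 := fun v => by
    have h1 := congrArg (fun g : M →ₗ[ℤ] M => g v) hfN
    simpa using h1
  have hNf' : ∀ v, (∑ i ∈ Finset.range p, x ^ i) ((x - 1) v) = 0 := fun v => by
    have h1 := congrArg (fun g : M →ₗ[ℤ] M => g v) hNf
    simpa using h1
  have hxv : ∀ v, (x - 1) v = 0 → x v = v := fun v hv => by
    have h1 : x v - v = 0 := by simpa using hv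
    exact sub_eq_zero.mp h1
  have hxiv : ∀ v, (x - 1) v = 0 → ∀ i : ℕ, (x ^ i) v = v := by
    intro v hv i
    induction i with
    | zero => simp
    | succ i ih => rw [pow_succ, Module.End.mul_apply, hxv v hv, ih]
  have hNmv : ∀ v, (x - 1) v = 0 → (∑ i ∈ Finset.range p, x ^ i) v = (p : ℤ) • v := by
    intro v hv
    simp only [LinearMap.sum_apply, hxiv v hv, Finset.sum_const, Finset.card_range]
    simp
  have hdisj : ∀ v, (x - 1) v = 0 → (∑ i ∈ Finset.range p, x ^ i) v = 0 → v = 0 := by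
    intro v h1 h2
    rw [hNmv v h1] at h2
    rcases smul_eq_zero.mp h2 with h3 | h3
    · exact absurd h3 hp0
    · exact h3
  -- ranks
  have hrank : Module.finrank ℤ (LinearMap.range (x - 1)) + Module.finrank ℤ (LinearMap.ker (x - 1))
      = Module.finrank ℤ M := by
    rw [← (x - 1).quotKerEquivRange.finrank_eq]
    exact Submodule.finrank_quotient_add_finrank _
  have htr1 : LinearMap.trace ℤ M (∑ i ∈ Finset.range p, x ^ i)
      = (Module.finrank ℤ M : ℤ) + ((p : ℤ) - 1) * t := by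
    rw [map_sum]
    have hrange : Finset.range p = insert 0 (Finset.Ico 1 p) := by
      ext i
      simp only [Finset.mem_range, Finset.mem_insert, Finset.mem_Ico]
      omega
    rw [hrange, Finset.sum_insert (by simp), pow_zero, LinearMap.trace_one,
      Finset.sum_congr rfl ht, Finset.sum_const, Nat.card_Ico]
    simp only [nsmul_eq_mul]
    push_cast [Nat.cast_sub (by omega : 1 ≤ p)]
    ring
  have hmem : ∀ v, (∑ i ∈ Finset.range p, x ^ i) v ∈ LinearMap.ker (x - 1) :=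
    fun v => LinearMap.mem_ker.mpr (hfN' v)
  have hres : (∑ i ∈ Finset.range p, x ^ i).restrict (fun v _ => hmem v)
      = (p : ℤ) • (1 : Module.End ℤ (LinearMap.ker (x - 1))) := by
    ext v
    simp [LinearMap.restrict_apply, hNmv v.1 (LinearMap.mem_ker.mp v.2)]
  have htr2 : LinearMap.trace ℤ M (∑ i ∈ Finset.range p, x ^ i)
      = (p : ℤ) * (Module.finrank ℤ (LinearMap.ker (x - 1)) : ℤ) := by
    rw [← LinearMap.trace_restrict_eq_of_forall_mem (LinearMap.ker (x - 1)) _ hmem, hres,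
      map_smul, LinearMap.trace_one, smul_eq_mul]
  -- the restricted endomorphism on `range (x - 1)`
  have hAf : ∀ v ∈ LinearMap.range (x - 1), (x - 1) v ∈ LinearMap.range (x - 1) :=
    fun v _ => ⟨v, rfl⟩
  have hAx : ∀ v ∈ LinearMap.range (x - 1), x v ∈ LinearMap.range (x - 1) := by
    rintro _ ⟨u, rfl⟩
    refine ⟨x u, ?_⟩
    simp
  have hypow : ∀ (i : ℕ) (v : LinearMap.range (x - 1)),
      (((x.restrict hAx) ^ i) v : M) = (x ^ i) (v : M) := by
    intro i
    induction i with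
    | zero => intro v; simp
    | succ i ih =>
      intro v
      rw [pow_succ, Module.End.mul_apply, ih, pow_succ, Module.End.mul_apply]
      rfl
  have hy0 : ∑ i ∈ Finset.range p, (x.restrict hAx) ^ i = 0 := by
    ext v
    rw [LinearMap.sum_apply, Submodule.coe_sum]
    simp only [hypow, LinearMap.zero_apply, Submodule.coe_zero]
    obtain ⟨u, hu⟩ := v.2
    rw [← hu]
    have h1 := hNf' u
    simpa [LinearMap.sum_apply] using h1
  obtain ⟨c, hc1, hc2⟩ := lat_det_sub_one p (x.restrict hAx) hy0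
  have hg : (x - 1).restrict hAf = x.restrict hAx - 1 := by
    ext v; simp [LinearMap.restrict_apply]
  have i1 := lat_index_det (LinearMap.range (x - 1)) (x - 1) hAf (by
    rintro _ ⟨u, rfl⟩ h0
    exact hdisj _ h0 (hNf' u))
  rw [hg, hc1] at i1
  have hAN : ∀ v ∈ LinearMap.ker (x - 1),
      (∑ i ∈ Finset.range p, x ^ i) v ∈ LinearMap.ker (x - 1) := fun v _ => hmem v
  have i2 := lat_index_det (LinearMap.ker (x - 1)) (∑ i ∈ Finset.range p, x ^ i) hAN (by
    intro v hv h0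
    exact hdisj v (LinearMap.mem_ker.mp hv) h0)
  rw [hres, LinearMap.det_smul, map_one, mul_one, Int.natAbs_pow, Int.natAbs_natCast] at i2
  obtain ⟨u, hu1, hu2⟩ := lat_chase (x - 1).toAddMonoidHom
    (∑ i ∈ Finset.range p, x ^ i).toAddMonoidHom hfN' hNf' hdisj
  have k1 : (LinearMap.ker (x - 1)).toAddSubgroup = (x - 1).toAddMonoidHom.ker :=
    LinearMap.ker_toAddSubgroup _
  have k2 : (LinearMap.range (x - 1)).toAddSubgroup = (x - 1).toAddMonoidHom.range :=
    LinearMap.range_toAddSubgroup _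
  have k3 : (LinearMap.ker (∑ i ∈ Finset.range p, x ^ i)).toAddSubgroup
      = (∑ i ∈ Finset.range p, x ^ i).toAddMonoidHom.ker := LinearMap.ker_toAddSubgroup _
  have k4 : (LinearMap.range (∑ i ∈ Finset.range p, x ^ i)).toAddSubgroup
      = (∑ i ∈ Finset.range p, x ^ i).toAddMonoidHom.range := LinearMap.range_toAddSubgroup _
  have k5 : ((LinearMap.range (x - 1)).map (x - 1)).toAddSubgroup
      = (x - 1).toAddMonoidHom.range.map (x - 1).toAddMonoidHom := by
    rw [← k2]; exact AddSubgroup.toAddSubmonoid_inj.mp rfl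
  have k6 : ((LinearMap.ker (x - 1)).map (∑ i ∈ Finset.range p, x ^ i)).toAddSubgroup
      = (x - 1).toAddMonoidHom.ker.map (∑ i ∈ Finset.range p, x ^ i).toAddMonoidHom := by
    rw [← k1]; exact AddSubgroup.toAddSubmonoid_inj.mp rfl
  rw [k5, k2] at i1
  rw [k6, k1] at i2
  rw [i2] at hu1
  rw [i1] at hu2
  obtain ⟨a, b, ha, hb, hab⟩ := lat_arith p hp.out _ _ u _ c hu1.symm hu2.symm
  refine ⟨a, b, ?_, ?_, ?_⟩
  · rw [k4, k1]; exact ha
  · rw [k2, k3]; exact hb
  · rw [hab]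
    have e1 : ((Module.finrank ℤ (LinearMap.range (x - 1)) : ℕ) : ℤ)
        + (Module.finrank ℤ (LinearMap.ker (x - 1)) : ℤ) = (Module.finrank ℤ M : ℤ) := by
      exact_mod_cast hrank
    have e2 := htr1.symm.trans htr2
    have e3 : (c : ℤ) * ((p : ℤ) - 1) = (Module.finrank ℤ (LinearMap.range (x - 1)) : ℤ) := by
      have h1 : ((c * (p - 1) : ℕ) : ℤ) = (Module.finrank ℤ (LinearMap.range (x - 1)) : ℤ) := by
        exact_mod_cast hc2
      rw [← h1]
      push_cast [Nat.cast_sub (by omega : 1 ≤ p)]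
      ring
    have hp1 : ((p : ℤ) - 1) ≠ 0 := by
      have : (2 : ℤ) ≤ p := by exact_mod_cast hp2
      omega
    have e4 : ((p : ℤ) - 1) * ((Module.finrank ℤ (LinearMap.ker (x - 1)) : ℤ) - c - t) = 0 := by
      linear_combination (-1 : ℤ) * e3 - e1 - e2
    rcases mul_eq_zero.mp e4 with h5 | h5
    · exact absurd h5 hp1
    · linarith

theorem lat_herbrand {N : ℕ} (p : ℕ) [Fact p.Prime] (L : Submodule ℤ (Fin N → ℤ))
    (X E : Matrix (Fin N) (Fin N) ℤ) (κ : ℤ) (hκ : κ ≠ 0)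
    (hXL : ∀ v ∈ L, X *ᵥ v ∈ L) (hXp : X ^ p = 1)
    (hEL : ∀ v, E *ᵥ v ∈ L) (hE : ∀ v ∈ L, E *ᵥ v = κ • v)
    (htr : ∀ k ∈ Finset.Ico 1 p, (E * X ^ k).trace = (E * X).trace) :
    ∃ a b : ℕ,
      (L.map (∑ i ∈ Finset.range p, X ^ i).mulVecLin).toAddSubgroup.relIndex
          (L ⊓ LinearMap.ker (X - 1).mulVecLin).toAddSubgroup = p ^ a ∧
      (L.map (X - 1).mulVecLin).toAddSubgroup.relIndex
          (L ⊓ LinearMap.ker (∑ i ∈ Finset.range p, X ^ i).mulVecLin).toAddSubgroup = p ^ b ∧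
      κ * ((a : ℤ) - b) = (E * X).trace := by
  classical
  have hp2 := (Fact.out : p.Prime).two_le
  have hXL' : ∀ v ∈ L, X.mulVecLin v ∈ L := fun v hv => by
    rw [Matrix.mulVecLin_apply]; exact hXL v hv
  have hxpow : ∀ (k : ℕ) (v : L),
      ((((X.mulVecLin.restrict hXL') ^ k) v : L) : Fin N → ℤ) = (X ^ k) *ᵥ (v : Fin N → ℤ) := by
    intro k
    induction k with
    | zero => intro v; simp
    | succ k ih =>
      intro v
      rw [pow_succ, Module.End.mul_apply, ih, pow_succ, ← Matrix.mulVec_mulVec]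
      rfl
  have hx : (X.mulVecLin.restrict hXL') ^ p = 1 := by
    apply LinearMap.ext; intro v; apply Subtype.ext
    rw [hxpow, hXp]; simp
  have htrk : ∀ k : ℕ, κ * LinearMap.trace ℤ L ((X.mulVecLin.restrict hXL') ^ k)
      = (E * X ^ k).trace := by
    intro k
    have hmem : ∀ v, Matrix.toLin' (E * X ^ k) v ∈ L := by
      intro v
      rw [Matrix.toLin'_apply, ← Matrix.mulVec_mulVec]
      exact hEL _
    have h1 := LinearMap.trace_restrict_eq_of_forall_mem L (Matrix.toLin' (E * X ^ k)) hmem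
    rw [Matrix.trace_toLin'_eq] at h1
    rw [← h1]
    have h2 : (Matrix.toLin' (E * X ^ k)).restrict (fun v _ => hmem v)
        = κ • ((X.mulVecLin.restrict hXL') ^ k) := by
      apply LinearMap.ext; intro v; apply Subtype.ext
      rw [LinearMap.coe_restrict_apply, Matrix.toLin'_apply, ← Matrix.mulVec_mulVec,
        LinearMap.smul_apply, Submodule.coe_smul, hxpow, hE]
      rw [← hxpow]; exact (((X.mulVecLin.restrict hXL') ^ k) v).2
    rw [h2, map_smul, smul_eq_mul]
  have ht : ∀ k ∈ Finset.Ico 1 p, LinearMap.trace ℤ L ((X.mulVecLin.restrict hXL') ^ k)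
      = LinearMap.trace ℤ L ((X.mulVecLin.restrict hXL') ^ 1) := by
    intro k hk
    apply mul_left_cancel₀ hκ
    rw [htrk, htrk, htr k hk, pow_one]
  obtain ⟨a, b, ha, hb, hab⟩ := lat_herbrand_abs p (X.mulVecLin.restrict hXL') hx _ ht
  have hsum : (∑ i ∈ Finset.range p, X ^ i).mulVecLin
      = ∑ i ∈ Finset.range p, (X ^ i).mulVecLin := by
    rw [← Matrix.toLin'_apply', map_sum]
    simp [Matrix.toLin'_apply']
  have hNmx : ∀ v : L, (((∑ i ∈ Finset.range p, (X.mulVecLin.restrict hXL') ^ i) v : L) :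
      Fin N → ℤ) = (∑ i ∈ Finset.range p, X ^ i).mulVecLin (v : Fin N → ℤ) := by
    intro v
    rw [LinearMap.sum_apply, Submodule.coe_sum, hsum, LinearMap.sum_apply]
    simp only [hxpow, Matrix.mulVecLin_apply]
  have hfx : ∀ v : L, ((((X.mulVecLin.restrict hXL') - 1) v : L) : Fin N → ℤ)
      = (X - 1).mulVecLin (v : Fin N → ℤ) := by
    intro v
    rw [Matrix.mulVecLin_apply, Matrix.sub_mulVec, Matrix.one_mulVec]
    rfl
  have hι : Function.Injective (L.subtype.toAddMonoidHom) := Subtype.val_injective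
  have m1 : (LinearMap.range (∑ i ∈ Finset.range p, (X.mulVecLin.restrict hXL') ^ i)).toAddSubgroup.map
      L.subtype.toAddMonoidHom = (L.map (∑ i ∈ Finset.range p, X ^ i).mulVecLin).toAddSubgroup := by
    ext w
    constructor
    · rintro ⟨_, ⟨u, rfl⟩, rfl⟩
      exact ⟨u.1, u.2, (hNmx u).symm⟩
    · rintro ⟨y, hy, rfl⟩
      exact ⟨_, ⟨⟨y, hy⟩, rfl⟩, hNmx ⟨y, hy⟩⟩
  have m2 : (LinearMap.ker ((X.mulVecLin.restrict hXL') - 1)).toAddSubgroup.map
      L.subtype.toAddMonoidHom = (L ⊓ LinearMap.ker (X - 1).mulVecLin).toAddSubgroup := by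
    ext w
    constructor
    · rintro ⟨u, hu, rfl⟩
      refine ⟨u.2, ?_⟩
      have hu' : ((X.mulVecLin.restrict hXL') - 1) u = 0 := hu
      show (X - 1).mulVecLin (u : Fin N → ℤ) = 0
      rw [← hfx u, hu']; rfl
    · rintro ⟨hw1, hw2⟩
      refine ⟨⟨w, hw1⟩, ?_, rfl⟩
      show ((X.mulVecLin.restrict hXL') - 1) ⟨w, hw1⟩ = 0
      apply Subtype.ext
      rw [hfx]; exact hw2
  have m3 : (LinearMap.range ((X.mulVecLin.restrict hXL') - 1)).toAddSubgroup.map
      L.subtype.toAddMonoidHom = (L.map (X - 1).mulVecLin).toAddSubgroup := by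
    ext w
    constructor
    · rintro ⟨_, ⟨u, rfl⟩, rfl⟩
      exact ⟨u.1, u.2, (hfx u).symm⟩
    · rintro ⟨y, hy, rfl⟩
      exact ⟨_, ⟨⟨y, hy⟩, rfl⟩, hfx ⟨y, hy⟩⟩
  have m4 : (LinearMap.ker (∑ i ∈ Finset.range p, (X.mulVecLin.restrict hXL') ^ i)).toAddSubgroup.map
      L.subtype.toAddMonoidHom
      = (L ⊓ LinearMap.ker (∑ i ∈ Finset.range p, X ^ i).mulVecLin).toAddSubgroup := by
    ext w
    constructor
    · rintro ⟨u, hu, rfl⟩
      refine ⟨u.2, ?_⟩
      have hu' : (∑ i ∈ Finset.range p, (X.mulVecLin.restrict hXL') ^ i) u = 0 := hu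
      show (∑ i ∈ Finset.range p, X ^ i).mulVecLin (u : Fin N → ℤ) = 0
      rw [← hNmx u, hu']; rfl
    · rintro ⟨hw1, hw2⟩
      refine ⟨⟨w, hw1⟩, ?_, rfl⟩
      show (∑ i ∈ Finset.range p, (X.mulVecLin.restrict hXL') ^ i) ⟨w, hw1⟩ = 0
      apply Subtype.ext
      rw [hNmx]; exact hw2
  refine ⟨a, b, ?_, ?_, ?_⟩
  · rw [← m1, ← m2, AddSubgroup.relIndex_map_map_of_injective _ _ hι]; exact ha
  · rw [← m3, ← m4, AddSubgroup.relIndex_map_map_of_injective _ _ hι]; exact hb
  · rw [hab, htrk 1, pow_one]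

end Cfsg.Agent.Helper67
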