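import Mathlib
import Cfsg.Agent.Helper90.MDSLDefs
import Cfsg.Agent.Helper60.SLHeis
import Cfsg.Agent.Helper67.MDMSLIN

/-!
# CALL S2332, PIECE MSE4 (helper67): `propT1_four`
-/

set_option autoImplicit false
set_option linter.unusedSectionVars false

namespace Cfsg.Agent.Helper67

open Module Cfsg.Agent.Helper90.MD Cfsg.Agent.Helper60.MinIdx

section
variable {F V0 : Type*} [Field F] [AddCommGroup V0] [Module F V0]

/-- two transvections `tv ψ' b`, `tv ψ w` commute when `ψ b = 0` and `ψ' w = 0`. -/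
theorem md_tv_comm {ψ ψ' : Dual F V0} {b w : V0} (hψ'b : ψ' b = 0) (hψb : ψ b = 0)
    (hψ'w : ψ' w = 0) : tv ψ' b * tv ψ w = tv ψ w * tv ψ' b := by
  have h := tv_conj (tv ψ' b) ψ w
  rw [md_cg_tv_eq hψ'b hψb, tv_apply hψ'b, hψ'w, zero_smul, add_zero] at h
  exact mul_inv_eq_iff_eq_mul.mp h

/-- a character of `Xsub φ ψ` trivial on the centraliser of `tv ψ' b` does not see
translations of the centre by vectors of `ker ψ'`. -/
theorem md_lam_add {φ ψ ψ' : Dual F V0} {b : V0} (hψb : ψ b = 0) (hψ'b : ψ' b = 0)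
    (lam : SpecialLinearGroup F V0 → ℂ) (hlam : IsCharOn (Xsub φ ψ) lam)
    (hD : ∀ x ∈ csub (Xsub φ ψ) (tv ψ' b), lam x = 1) {c w : V0} (hφc : φ c = 0)
    (hψc : ψ c = 0) (hφw : φ w = 0) (hψw : ψ w = 0) (hψ'w : ψ' w = 0) :
    lam (tv ψ (c + w)) = lam (tv ψ c) := by
  have hc : tv ψ c ∈ Xsub φ ψ := ⟨c, hφc, hψc, rfl⟩
  have hw : tv ψ w ∈ Xsub φ ψ := ⟨w, hφw, hψw, rfl⟩
  rw [← tv_add_left hψc hψw, hlam.2 _ hc _ hw,
    hD _ (mem_csub.mpr ⟨hw, md_tv_comm hψ'b hψb hψ'w⟩), mul_one]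

/-- conjugation by `l` preserves `Qsub φ` when `l` rescales `φ`. -/
theorem md_conj_qsub_of_cg {φ : Dual F V0} (l : SpecialLinearGroup F V0) (κ : F)
    (hcg : cg l φ = κ • φ) (hker : ∀ y, φ y = 0 → φ (l y) = 0)
    {x : SpecialLinearGroup F V0} (hx : x ∈ Qsub φ) : l * x * l⁻¹ ∈ Qsub φ := by
  obtain ⟨a, ha, rfl⟩ := hx
  refine ⟨κ • l a, ?_, ?_⟩
  · rw [map_smul, hker a ha, smul_zero]
  · rw [tv_conj, hcg, tv_smul]

/-- conjugation by `l` preserves `Xsub φ ψ` when `l` rescales `ψ` and preserves `ker φ`,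
`ker ψ`. -/
theorem md_conj_xsub_of_cg {φ ψ : Dual F V0} (l : SpecialLinearGroup F V0) (κ : F)
    (hcg : cg l ψ = κ • ψ) (hker : ∀ y, φ y = 0 → φ (l y) = 0)
    (hker' : ∀ y, ψ y = 0 → ψ (l y) = 0)
    {x : SpecialLinearGroup F V0} (hx : x ∈ Xsub φ ψ) : l * x * l⁻¹ ∈ Xsub φ ψ := by
  obtain ⟨a, ha, ha', rfl⟩ := hx
  refine ⟨κ • l a, ?_, ?_, ?_⟩
  · rw [map_smul, hker a ha, smul_zero]
  · rw [map_smul, hker' a ha', smul_zero]
  · rw [tv_conj, hcg, tv_smul]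

end

section
variable {F V0 : Type*} [Field F] [Finite F] [AddCommGroup V0] [Module F V0] [Module.Finite F V0]

/-- a torus element adapted to the flag `F b ⊂ ker φ ∩ ker ψ ⊂ ker φ ⊂ V0`, `dim V0 = 4`. -/
theorem md_exists_torus (hn : finrank F V0 = 4) {φ ψ ψ' : Dual F V0} {b : V0}
    (hli : LinearIndependent F ![φ, ψ, ψ']) (hφb : φ b = 0) (hψb : ψ b = 0) (hψ'b : ψ' b = 0)
    (hb : b ≠ 0) (c' : F) (hc' : c' ≠ 0) :
    ∃ s : SpecialLinearGroup F V0, s b = c' • b ∧ cg s ψ' = ψ' ∧ cg s ψ = ψ ∧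
      cg s φ = c' • φ := by
  classical
  obtain ⟨η, hη⟩ := exists_dual_one (F := F) hb
  have hv : LinearIndependent F ![η, ψ', ψ, φ] := by
    rw [Fintype.linearIndependent_iff]
    intro g hg
    rw [Fin.sum_univ_four] at hg
    have hg' : g 0 • η + g 1 • ψ' + g 2 • ψ + g 3 • φ = 0 := hg
    have h0 : g 0 = 0 := by
      have h1 := congrArg (fun f : Dual F V0 => f b) hg'
      simpa [hη, hφb, hψb, hψ'b] using h1
    have h3 := Fintype.linearIndependent_iff.mp hli ![g 3, g 2, g 1] (by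
      rw [Fin.sum_univ_three]
      show g 3 • φ + g 2 • ψ + g 1 • ψ' = 0
      rw [h0, zero_smul, zero_add] at hg'
      rw [← hg']; abel)
    intro i
    fin_cases i
    · exact h0
    · exact h3 2
    · exact h3 1
    · exact h3 0
  have hcard : Fintype.card (Fin 4) = finrank F (Dual F V0) := by
    rw [Subspace.dual_finrank_eq, hn]; rfl
  let B := basisOfLinearIndependentOfCardEqFinrank hv hcard
  have hB : ∀ i, B i = ![η, ψ', ψ, φ] i := fun i => by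
    rw [coe_basisOfLinearIndependentOfCardEqFinrank]
  let T : V0 →ₗ[F] (Fin 4 → F) := LinearMap.pi (fun i => ![η, ψ', ψ, φ] i)
  have hT : ∀ x i, T x i = ![η, ψ', ψ, φ] i x := fun x i => rfl
  have hTinj : Function.Injective T := by
    rw [← LinearMap.ker_eq_bot, LinearMap.ker_eq_bot']
    intro x hx
    by_contra hx0
    obtain ⟨f, hf⟩ := exists_dual_one (F := F) hx0
    have h1 : f = ∑ i, B.repr f i • B i := (B.sum_repr f).symm
    have h2 : f x = 0 := by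
      rw [h1, LinearMap.sum_apply]
      apply Finset.sum_eq_zero
      intro i _
      rw [LinearMap.smul_apply, hB i, ← hT x i, hx]
      simp
    rw [hf] at h2
    exact one_ne_zero h2
  let Te : V0 ≃ₗ[F] (Fin 4 → F) :=
    LinearMap.linearEquivOfInjective T hTinj (by rw [hn, Module.finrank_fin_fun])
  have hTe : ∀ x, Te x = T x := fun x => rfl
  let e : Basis (Fin 4) F V0 := Basis.ofEquivFun Te
  have hcoord : ∀ i, e.coord i = ![η, ψ', ψ, φ] i := by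
    intro i
    ext x
    rw [Basis.coord_apply, Basis.ofEquivFun_repr_apply, hTe, hT]
  have he0 : e 0 = b := by
    have h1 : Te b = Pi.single 0 1 := by
      funext i
      rw [hTe, hT]
      fin_cases i <;> simp [hη, hφb, hψb, hψ'b]
    rw [Basis.coe_ofEquivFun]
    show Te.symm (Pi.single 0 1) = b
    rw [← h1, LinearEquiv.symm_apply_apply]
  have hprod : ∏ i, (![c', 1, 1, c'⁻¹] : Fin 4 → F) i = 1 := by
    rw [Fin.prod_univ_four]
    simp [hc']
  obtain ⟨s, hs⟩ := exists_diag e ![c', 1, 1, c'⁻¹] hprod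
  have hd0 : ∀ i, (![c', 1, 1, c'⁻¹] : Fin 4 → F) i ≠ 0 := by
    intro i
    fin_cases i <;> simp [hc']
  refine ⟨s, ?_, ?_, ?_, ?_⟩
  · rw [← he0, hs 0]
    simp
  · have h1 := diag_cg e s hs hd0 1
    rw [hcoord 1] at h1
    simpa using h1
  · have h1 := diag_cg e s hs hd0 2
    rw [hcoord 2] at h1
    simpa using h1
  · have h1 := diag_cg e s hs hd0 3
    rw [hcoord 3] at h1
    simpa using h1

theorem propT1_four (hn : finrank F V0 = 4) (hq : 3 ≤ Nat.card F) {φ ψ ψ' : Dual F V0} {b : V0}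
    (hli : LinearIndependent F ![φ, ψ, ψ']) (hφb : φ b = 0) (hψb : ψ b = 0) (hψ'b : ψ' b = 0)
    (hb : b ≠ 0) :
    PropT (normSub (Qsub φ)) (Xsub φ ψ) (csub (Xsub φ ψ) (tv ψ' b)) (tv ψ' b) := by
  classical
  intro lam hlam _ hD
  obtain ⟨c', hc'0, hc'1⟩ : ∃ c : F, c ≠ 0 ∧ c ≠ 1 := by
    by_contra hcon
    push Not at hcon
    let _i : Fintype F := Fintype.ofFinite F
    have hsub : (Finset.univ : Finset F) ⊆ {0, 1} := by
      intro c _
      by_cases h0 : c = 0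
      · simp [h0]
      · simp [hcon c h0]
    have h1 := Finset.card_le_card hsub
    rw [Finset.card_univ, ← Nat.card_eq_fintype_card] at h1
    have h2 : ({0, 1} : Finset F).card ≤ 2 := Finset.card_le_two
    omega
  obtain ⟨s, hsb, hsψ', hsψ, hsφ⟩ := md_exists_torus hn hli hφb hψb hψ'b hb c' hc'0
  have hφs : ∀ y, φ (s⁻¹ y) = c' * φ y := fun y => by
    rw [← cg_apply, hsφ]; rfl
  have hψs : ∀ y, ψ (s⁻¹ y) = ψ y := fun y => by
    rw [← cg_apply, hsψ]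
  have hψ's : ∀ y, ψ' (s⁻¹ y) = ψ' y := fun y => by
    rw [← cg_apply, hsψ']
  have hφs' : ∀ y, c' * φ (s y) = φ y := fun y => by
    rw [← hφs, sl_inv_apply_apply]
  have hψs' : ∀ y, ψ (s y) = ψ y := fun y => by
    rw [← hψs (s y), sl_inv_apply_apply]
  have hψ's' : ∀ y, ψ' (s y) = ψ' y := fun y => by
    rw [← hψ's (s y), sl_inv_apply_apply]
  have hsφi : cg s⁻¹ φ = c'⁻¹ • φ := by
    have h1 : cg s⁻¹ (cg s φ) = φ := cg_inv_cg s φ
    rw [hsφ, cg_smul] at h1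
    calc cg s⁻¹ φ = c'⁻¹ • (c' • cg s⁻¹ φ) := by
          rw [smul_smul, inv_mul_cancel₀ hc'0, one_smul]
      _ = c'⁻¹ • φ := by rw [h1]
  have hsψi : cg s⁻¹ ψ = ψ := by
    have h1 : cg s⁻¹ (cg s ψ) = ψ := cg_inv_cg s ψ
    rwa [hsψ] at h1
  have hkφ : ∀ y, φ y = 0 → φ (s y) = 0 := by
    intro y hy
    have h1 := hφs' y
    rw [hy] at h1
    rcases mul_eq_zero.mp h1 with h | h
    · exact absurd h hc'0
    · exact h
  have hkφi : ∀ y, φ y = 0 → φ (s⁻¹ y) = 0 := fun y hy => by rw [hφs, hy, mul_zero]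
  have hkψ : ∀ y, ψ y = 0 → ψ (s y) = 0 := fun y hy => by rw [hψs', hy]
  have hkψi : ∀ y, ψ y = 0 → ψ (s⁻¹ y) = 0 := fun y hy => by rw [hψs, hy]
  have hs1 : s ∈ stabSet (normSub (Qsub φ)) (Xsub φ ψ) lam := by
    refine ⟨mem_normSub.mpr ⟨fun x hx => md_conj_qsub_of_cg s c' hsφ hkφ hx, fun x hx => ?_⟩,
      ⟨fun x hx => md_conj_xsub_of_cg s 1 (by rw [hsψ, one_smul]) hkφ hkψ hx, fun x hx => ?_⟩,
      ?_⟩
    · have h1 := md_conj_qsub_of_cg s⁻¹ c'⁻¹ hsφi hkφi hx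
      rwa [inv_inv] at h1
    · have h1 := md_conj_xsub_of_cg s⁻¹ 1 (by rw [hsψi, one_smul]) hkφi hkψi hx
      rwa [inv_inv] at h1
    · rintro x ⟨c, hφc, hψc, rfl⟩
      rw [tv_conj, hsψ]
      have h1 : s c = c + (s c - c) := by abel
      rw [h1]
      apply md_lam_add hψb hψ'b lam hlam hD hφc hψc
      · rw [map_sub, hkφ c hφc, hφc, sub_zero]
      · rw [map_sub, hψs', sub_self]
      · rw [map_sub, hψ's', sub_self]
  obtain ⟨y, hy⟩ : ∃ y : F, (c' - 1) * y = 1 :=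
    ⟨(c' - 1)⁻¹, mul_inv_cancel₀ (sub_ne_zero.mpr hc'1)⟩
  have hφyb : φ (y • b) = 0 := by rw [map_smul, hφb, smul_zero]
  have hψyb : ψ (y • b) = 0 := by rw [map_smul, hψb, smul_zero]
  have hψ'yb : ψ' (y • b) = 0 := by rw [map_smul, hψ'b, smul_zero]
  have hs2 : tv ψ' (y • b) ∈ stabSet (normSub (Qsub φ)) (Xsub φ ψ) lam := by
    refine ⟨mem_normSub.mpr (md_normBy_qsub hψ'yb hφyb), md_normBy_xsub hψ'yb hφyb hψyb, ?_⟩
    rintro x ⟨c, hφc, hψc, rfl⟩
    rw [tv_conj, md_cg_tv_eq hψ'yb hψyb, tv_apply hψ'yb]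
    apply md_lam_add hψb hψ'b lam hlam hD hφc hψc
    · rw [map_smul, hφyb, smul_zero]
    · rw [map_smul, hψyb, smul_zero]
    · rw [map_smul, hψ'yb, smul_zero]
  have hcomm : tv ψ' b = s * tv ψ' (y • b) * s⁻¹ * (tv ψ' (y • b))⁻¹ := by
    rw [tv_conj, hsψ', tv_inv, sl_map_smul, hsb]
    have h1 : ψ' (y • c' • b) = 0 := by
      rw [map_smul, map_smul, hψ'b, smul_zero, smul_zero]
    have h2 : ψ' (-(y • b)) = 0 := by rw [map_neg, hψ'yb, neg_zero]
    rw [tv_add_left h1 h2]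
    congr 1
    have h3 : y • c' • b + -(y • b) = ((c' - 1) * y) • b := by
      rw [sub_mul, sub_smul, one_mul, mul_comm, mul_smul]
      abel
    rw [h3, hy, one_smul]
  unfold commSet
  rw [hcomm]
  exact Subgroup.subset_closure ⟨s, hs1, _, hs2, rfl⟩

end

end Cfsg.Agent.Helper67
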