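/-
CALL S4404 (helper16), piece K1 (double by helper67): a hyperplane of `A` not normalized by `x`
has no more fixed points on `M` than `A`.
-/
import Mathlib
import Cfsg.Agent.Helper16.NGDefs

set_option autoImplicit false

namespace Cfsg.Agent.Helper67.NGK1

open Cfsg.Agent.Helper16.NG

section avg

variable {W : Type*} [CommGroup W] {ι : Type*} [Finite ι]

/-- the product of the images of `w` under a finite family of automorphisms -/
noncomputable def avgT (f : ι → MulAut W) (w : W) : W :=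
  haveI := Fintype.ofFinite ι
  ∏ i, f i w

theorem avgT_mul (f : ι → MulAut W) (w w' : W) : avgT f (w * w') = avgT f w * avgT f w' := by
  unfold avgT
  simp only [map_mul]
  exact Finset.prod_mul_distrib

theorem avgT_one (f : ι → MulAut W) : avgT f (1 : W) = 1 := by
  unfold avgT
  simp

theorem avgT_fixed (f : ι → MulAut W) (w : W) (h : ∀ i, f i w = w) :
    avgT f w = w ^ Nat.card ι := by
  let _ := Fintype.ofFinite ι
  unfold avgT
  rw [Finset.prod_congr rfl (fun i _ => h i), Finset.prod_const, Finset.card_univ,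
    Nat.card_eq_fintype_card]

theorem avgT_equiv (f : ι → MulAut W) (g : MulAut W) (k : W → W) (π : ι ≃ ι)
    (h : ∀ i w, g (f i w) = f (π i) (k w)) (w : W) : g (avgT f w) = avgT f (k w) := by
  letI := Fintype.ofFinite ι
  unfold avgT
  rw [map_prod]
  exact Fintype.prod_equiv π _ _ (fun i => h i w)

theorem avgT_avgT {ι' : Type*} [Finite ι'] (f : ι → MulAut W) (f' : ι' → MulAut W)
    (hc : ∀ i j w, f i (f' j w) = f' j (f i w)) (w : W) :
    avgT f (avgT f' w) = avgT f' (avgT f w) := by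
  unfold avgT
  simp only [map_prod]
  rw [Finset.prod_comm]
  exact Finset.prod_congr rfl (fun j _ => Finset.prod_congr rfl (fun i _ => hc i j w))

end avg

section ops

variable {W : Type*} [CommGroup W] {Ag : Type*} [CommGroup Ag] [Finite Ag] (σ : Ag →* MulAut W)

/-- the norm map of a subgroup -/
noncomputable def eSub (H : Subgroup Ag) (w : W) : W := avgT (fun h : ↥H => σ (h : Ag)) w

/-- the norm map of the whole group -/
noncomputable def eAll (w : W) : W := avgT (fun a : Ag => σ a) w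

theorem eSub_mul (H : Subgroup Ag) (w w' : W) :
    eSub σ H (w * w') = eSub σ H w * eSub σ H w' := avgT_mul _ w w'

theorem eAll_mul (w w' : W) : eAll σ (w * w') = eAll σ w * eAll σ w' := avgT_mul _ w w'

theorem eAll_one : eAll σ (1 : W) = 1 := avgT_one _

theorem eSub_inv (H : Subgroup Ag) (w : W) (c : Ag) (hc : c ∈ H) :
    σ c (eSub σ H w) = eSub σ H w :=
  avgT_equiv _ (σ c) id (Equiv.mulLeft (⟨c, hc⟩ : ↥H)) (fun i w => by
    show σ c (σ (i : Ag) w) = σ ((⟨c, hc⟩ * i : ↥H) : Ag) w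
    rw [Subgroup.coe_mul, map_mul, MulAut.mul_apply]) w

theorem eAll_inv (w : W) (a : Ag) : σ a (eAll σ w) = eAll σ w :=
  avgT_equiv _ (σ a) id (Equiv.mulLeft a) (fun i w => by
    show σ a (σ i w) = σ (a * i) w
    rw [map_mul, MulAut.mul_apply]) w

theorem eAll_pre (w : W) (a : Ag) : eAll σ (σ a w) = eAll σ w :=
  (avgT_equiv (fun a : Ag => σ a) (1 : MulAut W) (fun w => σ a w) (Equiv.mulRight a⁻¹)
    (fun i w => by
      show σ i w = σ (i * a⁻¹) (σ a w)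
      rw [← MulAut.mul_apply, ← map_mul, inv_mul_cancel_right]) w).symm

theorem eSub_comm (H : Subgroup Ag) (w : W) (a : Ag) :
    σ a (eSub σ H w) = eSub σ H (σ a w) :=
  avgT_equiv _ (σ a) (fun w => σ a w) (Equiv.refl _) (fun i w => by
    show σ a (σ (i : Ag) w) = σ (i : Ag) (σ a w)
    rw [← MulAut.mul_apply, ← MulAut.mul_apply, ← map_mul, ← map_mul, mul_comm]) w

theorem eAll_eSub (H : Subgroup Ag) (w : W) : eAll σ (eSub σ H w) = eSub σ H (eAll σ w) :=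
  avgT_avgT _ _ (fun i j w => by
    show σ i (σ (j : Ag) w) = σ (j : Ag) (σ i w)
    rw [← MulAut.mul_apply, ← MulAut.mul_apply, ← map_mul, ← map_mul, mul_comm]) w

end ops

/-- The abstract form of K1. -/
theorem ng_abs {W : Type*} [CommGroup W] [Finite W] (hW2 : ∀ w : W, w ^ 2 = 1)
    {Ag : Type*} [CommGroup Ag] [Finite Ag] (hodd : Odd (Nat.card Ag))
    (σ : Ag →* MulAut W) (τ : MulAut W) (θ : Ag ≃ Ag)
    (hθ : ∀ a w, τ (σ a w) = σ (θ a) (τ w))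
    (B B₁ B₂ : Subgroup Ag)
    (h1 : ∀ b₁ ∈ B₁, ∃ b ∈ B, θ b = b₁) (h2 : ∀ b₂ ∈ B₂, ∃ b ∈ B₁, θ b = b₂)
    (hs01 : B ⊔ B₁ = ⊤) (hs02 : B ⊔ B₂ = ⊤) (hs12 : B₁ ⊔ B₂ = ⊤)
    (V : Finset W) (hV4 : V.card ≤ 4) (hV : ∀ w, τ w * w ∈ V) :
    ∀ w : W, (∀ b ∈ B, σ b w = w) → ∀ a : Ag, σ a w = w := by
  classical
  have hpow : ∀ (w : W) (n : ℕ), Odd n → w ^ n = w := by
    rintro w n ⟨k, rfl⟩
    rw [pow_succ, pow_mul, hW2, one_pow, one_mul]
  have hoddH : ∀ H : Subgroup Ag, Odd (Nat.card H) := fun H =>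
    Odd.of_dvd_nat hodd (Subgroup.card_subgroup_dvd_card H)
  have e_fix : ∀ (H : Subgroup Ag) (w : W), (∀ b ∈ H, σ b w = w) → eSub σ H w = w := by
    intro H w hw
    unfold eSub
    rw [avgT_fixed _ w (fun i : ↥H => hw i.1 i.2), hpow w _ (hoddH H)]
  have eA_fix : ∀ w : W, (∀ a, σ a w = w) → eAll σ w = w := by
    intro w hw
    unfold eAll
    rw [avgT_fixed _ w hw, hpow w _ hodd]
  have eA_e : ∀ (H : Subgroup Ag) (w : W), eAll σ (eSub σ H w) = eAll σ w := by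
    intro H w
    rw [eAll_eSub]
    exact e_fix H _ (fun b _ => eAll_inv σ w b)
  have E4 : ∀ (H₁ H₂ : Subgroup Ag), H₁ ⊔ H₂ = ⊤ →
      ∀ w, eSub σ H₁ (eSub σ H₂ w) = eAll σ w := by
    intro H₁ H₂ hsup w
    have hfix : ∀ a, σ a (eSub σ H₁ (eSub σ H₂ w)) = eSub σ H₁ (eSub σ H₂ w) := by
      intro a
      have ha : a ∈ H₁ ⊔ H₂ := by rw [hsup]; exact Subgroup.mem_top a
      obtain ⟨y, hy, z, hz, rfl⟩ := Subgroup.mem_sup.mp ha
      rw [map_mul, MulAut.mul_apply, eSub_comm σ H₁ _ z, eSub_inv σ H₂ w z hz,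
        eSub_inv σ H₁ _ y hy]
    rw [← eA_fix _ hfix, eA_e, eA_e]
  have P1 : ∀ (H H' : Subgroup Ag), H' ⊔ H = ⊤ → ∀ w, (∀ b ∈ H, σ b w = w) →
      eAll σ w = 1 → eSub σ H' w = 1 := by
    intro H H' hsup w hw hw1
    have e1 : eSub σ H' (eSub σ H w) = 1 := by rw [E4 H' H hsup, hw1]
    rw [e_fix H w hw] at e1
    exact e1
  have τfix1 : ∀ w, (∀ b ∈ B, σ b w = w) → ∀ b ∈ B₁, σ b (τ w) = τ w := by
    intro w hw b₁ hb₁
    obtain ⟨b, hb, rfl⟩ := h1 b₁ hb₁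
    rw [← hθ, hw b hb]
  have τfix2 : ∀ w, (∀ b ∈ B₁, σ b w = w) → ∀ b ∈ B₂, σ b (τ w) = τ w := by
    intro w hw b₂ hb₂
    obtain ⟨b, hb, rfl⟩ := h2 b₂ hb₂
    rw [← hθ, hw b hb]
  have τeA : ∀ w, eAll σ (τ w) = τ (eAll σ w) := by
    intro w
    exact (avgT_equiv (fun a : Ag => σ a) τ (fun w => τ w) θ (fun i w => hθ i w) w).symm
  have hMB : ∀ n, (∀ b ∈ B, σ b n = n) → eAll σ n = 1 →
      eSub σ B n = n ∧ eSub σ B₂ n = 1 ∧ eSub σ B (τ n) = 1 ∧ eSub σ B₂ (τ n) = 1 ∧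
      eSub σ B (τ (τ n)) = 1 ∧ eSub σ B₂ (τ (τ n)) = τ (τ n) := by
    intro n hn hn1
    have hτ1 : eAll σ (τ n) = 1 := by rw [τeA, hn1, map_one]
    have hτ2 : eAll σ (τ (τ n)) = 1 := by rw [τeA, hτ1, map_one]
    have f1 := τfix1 n hn
    have f2 := τfix2 (τ n) f1
    exact ⟨e_fix B n hn, P1 B B₂ (by rw [sup_comm]; exact hs02) n hn hn1,
      P1 B₁ B hs01 (τ n) f1 hτ1, P1 B₁ B₂ (by rw [sup_comm]; exact hs12) (τ n) f1 hτ1,
      P1 B₂ B hs02 (τ (τ n)) f2 hτ2, e_fix B₂ _ f2⟩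
  have hΦ : ∀ n₁ n₂, (∀ b ∈ B, σ b n₁ = n₁) → eAll σ n₁ = 1 → (∀ b ∈ B, σ b n₂ = n₂) →
      eAll σ n₂ = 1 →
      τ n₁ * n₁ * (τ (τ n₂) * τ n₂) ∈ V ∧
      eSub σ B (τ n₁ * n₁ * (τ (τ n₂) * τ n₂)) = n₁ ∧
      eSub σ B₂ (τ n₁ * n₁ * (τ (τ n₂) * τ n₂)) = τ (τ n₂) := by
    intro n₁ n₂ h1' h1'' h2' h2''
    obtain ⟨a1, a2, a3, a4, a5, a6⟩ := hMB n₁ h1' h1''
    obtain ⟨b1, b2, b3, b4, b5, b6⟩ := hMB n₂ h2' h2''
    refine ⟨?_, ?_, ?_⟩
    · have h3 := hV (n₁ * τ n₂)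
      rw [map_mul, mul_mul_mul_comm] at h3
      exact h3
    · rw [eSub_mul, eSub_mul, eSub_mul, a3, a1, b5, b3]
      simp
    · rw [eSub_mul, eSub_mul, eSub_mul, a4, a2, b6, b4]
      simp
  have := Fintype.ofFinite W
  obtain ⟨MBs, hMBs⟩ : ∃ MBs : Finset W, MBs =
      Finset.univ.filter (fun n => (∀ b ∈ B, σ b n = n) ∧ eAll σ n = 1) := ⟨_, rfl⟩
  have hmem : ∀ n, n ∈ MBs ↔ (∀ b ∈ B, σ b n = n) ∧ eAll σ n = 1 := by
    intro n
    rw [hMBs, Finset.mem_filter]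
    exact ⟨fun h => h.2, fun h => ⟨Finset.mem_univ _, h⟩⟩
  have hcard : (MBs ×ˢ MBs).card ≤ V.card := by
    apply Finset.card_le_card_of_injOn (fun p : W × W => τ p.1 * p.1 * (τ (τ p.2) * τ p.2))
    · intro p hp
      rw [Finset.mem_coe, Finset.mem_product] at hp
      exact (hΦ p.1 p.2 ((hmem _).mp hp.1).1 ((hmem _).mp hp.1).2 ((hmem _).mp hp.2).1
        ((hmem _).mp hp.2).2).1
    · intro p hp q hq hpq
      rw [Finset.mem_coe, Finset.mem_product] at hp hq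
      have hP := hΦ p.1 p.2 ((hmem _).mp hp.1).1 ((hmem _).mp hp.1).2 ((hmem _).mp hp.2).1
        ((hmem _).mp hp.2).2
      have hQ := hΦ q.1 q.2 ((hmem _).mp hq.1).1 ((hmem _).mp hq.1).2 ((hmem _).mp hq.2).1
        ((hmem _).mp hq.2).2
      have hpq' : τ p.1 * p.1 * (τ (τ p.2) * τ p.2) = τ q.1 * q.1 * (τ (τ q.2) * τ q.2) := hpq
      have e1 : p.1 = q.1 := by rw [← hP.2.1, ← hQ.2.1, hpq']
      have e2 : τ (τ p.2) = τ (τ q.2) := by rw [← hP.2.2, ← hQ.2.2, hpq']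
      exact Prod.ext e1 (τ.injective (τ.injective e2))
  rw [Finset.card_product] at hcard
  have hcard2 : MBs.card ≤ 2 := by
    by_contra hcon
    have h3 : 3 ≤ MBs.card := by omega
    nlinarith
  have h1mem : (1 : W) ∈ MBs := (hmem 1).mpr ⟨fun b _ => map_one _, eAll_one σ⟩
  have hcard1 : (MBs.erase 1).card ≤ 1 := by
    rw [Finset.card_erase_of_mem h1mem]
    omega
  have hMBtriv : ∀ n, (∀ b ∈ B, σ b n = n) → eAll σ n = 1 → n = 1 := by
    intro n hn hn1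
    by_contra hne
    have hfixA : ∀ a, σ a n = n := by
      intro a
      have hmem1 : σ a n ∈ MBs.erase 1 := by
        rw [Finset.mem_erase]
        refine ⟨fun h => hne ?_, (hmem _).mpr ⟨fun b hb => ?_, ?_⟩⟩
        · exact (σ a).injective (h.trans (map_one (σ a)).symm)
        · rw [← MulAut.mul_apply, ← map_mul, mul_comm, map_mul, MulAut.mul_apply, hn b hb]
        · rw [eAll_pre, hn1]
      have hmem2 : n ∈ MBs.erase 1 := by
        rw [Finset.mem_erase]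
        exact ⟨hne, (hmem _).mpr ⟨hn, hn1⟩⟩
      exact Finset.card_le_one.mp hcard1 _ hmem1 _ hmem2
    have h3 := eA_fix n hfixA
    rw [hn1] at h3
    exact hne h3.symm
  intro w hw a
  have hy : w * eAll σ w = 1 := by
    apply hMBtriv
    · intro b hb
      rw [map_mul, hw b hb, eAll_inv]
    · rw [eAll_mul, eA_fix (eAll σ w) (fun a => eAll_inv σ w a), ← pow_two, hW2]
  have hweq : w = eAll σ w := by
    have h2' : eAll σ w * eAll σ w = 1 := by rw [← pow_two, hW2]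
    exact mul_right_cancel (hy.trans h2'.symm)
  rw [hweq]
  exact eAll_inv σ w a

/-- two distinct subgroups of order `r²` of a group of order `r³` generate it -/
theorem ng_sup_top {S : Type*} [Group S] [Finite S] (r : ℕ) [Fact r.Prime] (A : Subgroup S)
    (hA3 : Nat.card A = r ^ 3) (H₁ H₂ : Subgroup S) (h1 : H₁ ≤ A) (h2 : H₂ ≤ A)
    (c1 : Nat.card H₁ = r ^ 2) (c2 : Nat.card H₂ = r ^ 2) (hne : H₁ ≠ H₂) :
    H₁.subgroupOf A ⊔ H₂.subgroupOf A = ⊤ := by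
  have hr : r.Prime := Fact.out
  have k1 : Nat.card (H₁.subgroupOf A) = r ^ 2 := by
    rw [Nat.card_congr (Subgroup.subgroupOfEquivOfLe h1).toEquiv, c1]
  have k2 : Nat.card (H₂.subgroupOf A) = r ^ 2 := by
    rw [Nat.card_congr (Subgroup.subgroupOfEquivOfLe h2).toEquiv, c2]
  obtain ⟨R, hR⟩ : ∃ R : Subgroup ↥A, R = H₁.subgroupOf A ⊔ H₂.subgroupOf A := ⟨_, rfl⟩
  rw [← hR]
  have hle1 : H₁.subgroupOf A ≤ R := by rw [hR]; exact le_sup_left
  have hle2 : H₂.subgroupOf A ≤ R := by rw [hR]; exact le_sup_right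
  have hdvd : Nat.card R ∣ r ^ 3 := hA3 ▸ Subgroup.card_subgroup_dvd_card R
  obtain ⟨i, hi, hRi⟩ := (Nat.dvd_prime_pow hr).mp hdvd
  have hdvd1 : r ^ 2 ∣ Nat.card R := k1 ▸ Subgroup.card_dvd_of_le hle1
  rw [hRi] at hdvd1
  have hi2 : 2 ≤ i := (Nat.pow_dvd_pow_iff_le_right hr.one_lt).mp hdvd1
  have hi3 : i = 3 := by
    by_contra hcon
    have hi' : i = 2 := by omega
    rw [hi'] at hRi
    have e1 : H₁.subgroupOf A = R :=
      Subgroup.eq_of_le_of_card_ge hle1 (by rw [hRi, k1])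
    have e2 : H₂.subgroupOf A = R :=
      Subgroup.eq_of_le_of_card_ge hle2 (by rw [hRi, k2])
    apply hne
    have e3 : H₁.subgroupOf A = H₂.subgroupOf A := e1.trans e2.symm
    apply le_antisymm
    · intro g hg
      have h3 : (⟨g, h1 hg⟩ : ↥A) ∈ H₁.subgroupOf A := Subgroup.mem_subgroupOf.mpr hg
      rw [e3] at h3
      exact Subgroup.mem_subgroupOf.mp h3
    · intro g hg
      have h3 : (⟨g, h2 hg⟩ : ↥A) ∈ H₂.subgroupOf A := Subgroup.mem_subgroupOf.mpr hg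
      rw [← e3] at h3
      exact Subgroup.mem_subgroupOf.mp h3
  apply Subgroup.eq_top_of_card_eq
  rw [hRi, hi3, hA3]

variable {S : Type*} [Group S]

open scoped IsMulCommutative in
/-- K1: a hyperplane not normalized by `x` has no more fixed points on `M` than `A` -/
theorem ng_noninv [Finite S] {M V : Subgroup S} {x : S} (h : Cfg M V x) (r : ℕ) [Fact r.Prime] (hr2 : r ≠ 2)
    (A : Subgroup S) (hA : Cfsg.IsElementaryAbelian r A) (hA3 : Nat.card A = r ^ 3)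
    (hxA : ∀ a ∈ A, x * a * x⁻¹ ∈ A) (B : Subgroup S) (hBA : B ≤ A) (hB : Nat.card B = r ^ 2)
    (hxB : ¬ ∀ b ∈ B, x * b * x⁻¹ ∈ B) :
    M ⊓ Subgroup.centralizer (B : Set S) ≤ Subgroup.centralizer (A : Set S) := by
  classical
  have hr : r.Prime := Fact.out
  haveI : M.Normal := h.normal
  haveI : IsMulCommutative ↥A := hA.1
  haveI : IsMulCommutative ↥M := ⟨⟨fun a b => Subtype.ext (h.comm a a.2 b b.2)⟩⟩
  have hroddp : Odd r := hr.odd_of_ne_two hr2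
  have hodd : Odd (Nat.card ↥A) := by rw [hA3]; exact hroddp.pow
  have hW2 : ∀ w : ↥M, w ^ 2 = 1 := fun w => Subtype.ext (h.sq w w.2)
  -- the conjugates of `B`
  obtain ⟨B1, hB1⟩ : ∃ B1 : Subgroup S, B1 = B.map (MulAut.conj x).toMonoidHom := ⟨_, rfl⟩
  obtain ⟨B2, hB2⟩ : ∃ B2 : Subgroup S, B2 = B1.map (MulAut.conj x).toMonoidHom := ⟨_, rfl⟩
  have mem1 : ∀ g, g ∈ B1 ↔ ∃ b ∈ B, x * b * x⁻¹ = g := by
    intro g
    rw [hB1]
    simp only [Subgroup.mem_map, MulEquiv.coe_toMonoidHom, MulAut.conj_apply]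
  have mem2 : ∀ g, g ∈ B2 ↔ ∃ b ∈ B1, x * b * x⁻¹ = g := by
    intro g
    rw [hB2]
    simp only [Subgroup.mem_map, MulEquiv.coe_toMonoidHom, MulAut.conj_apply]
  have hB1A : B1 ≤ A := by
    intro g hg
    obtain ⟨b, hb, rfl⟩ := (mem1 g).mp hg
    exact hxA b (hBA hb)
  have hB2A : B2 ≤ A := by
    intro g hg
    obtain ⟨b, hb, rfl⟩ := (mem2 g).mp hg
    exact hxA b (hB1A hb)
  have cB1 : Nat.card B1 = r ^ 2 := by
    rw [hB1, ← hB]
    exact Nat.card_congr (B.equivMapOfInjective _ (MulAut.conj x).injective).symm.toEquiv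
  have cB2 : Nat.card B2 = r ^ 2 := by
    rw [hB2, ← cB1]
    exact Nat.card_congr (B1.equivMapOfInjective _ (MulAut.conj x).injective).symm.toEquiv
  have d01 : B ≠ B1 := by
    intro e
    apply hxB
    intro b hb
    have h3 : x * b * x⁻¹ ∈ B1 := (mem1 _).mpr ⟨b, hb, rfl⟩
    rw [← e] at h3
    exact h3
  have d12 : B1 ≠ B2 := by
    intro e
    apply hxB
    intro b hb
    have h3 : x * b * x⁻¹ ∈ B1 := (mem1 _).mpr ⟨b, hb, rfl⟩
    have h4 : x * (x * b * x⁻¹) * x⁻¹ ∈ B2 := (mem2 _).mpr ⟨_, h3, rfl⟩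
    rw [← e] at h4
    obtain ⟨b', hb', hbe⟩ := (mem1 _).mp h4
    have h5 : b' = x * b * x⁻¹ := mul_left_cancel (mul_right_cancel hbe)
    rw [← h5]
    exact hb'
  have d02 : B ≠ B2 := by
    intro e
    apply hxB
    have hx2 : ∀ b ∈ B, x * (x * b * x⁻¹) * x⁻¹ ∈ B := by
      intro b hb
      have h4 : x * (x * b * x⁻¹) * x⁻¹ ∈ B2 :=
        (mem2 _).mpr ⟨_, (mem1 _).mpr ⟨b, hb, rfl⟩, rfl⟩
      rw [← e] at h4
      exact h4
    have hpw : ∀ j : ℕ, ∀ b ∈ B, (x ^ 2) ^ j * b * ((x ^ 2) ^ j)⁻¹ ∈ B := by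
      intro j
      induction j with
      | zero =>
        intro b hb
        simpa using hb
      | succ j ih =>
        intro b hb
        have h3 := hx2 _ (ih b hb)
        have e3 : (x ^ 2) ^ (j + 1) * b * ((x ^ 2) ^ (j + 1))⁻¹ =
            x * (x * ((x ^ 2) ^ j * b * ((x ^ 2) ^ j)⁻¹) * x⁻¹) * x⁻¹ := by
          rw [pow_succ']
          generalize (x ^ 2) ^ j = y
          rw [pow_two]
          simp only [mul_inv_rev, mul_assoc]
        rw [e3]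
        exact h3
    obtain ⟨k, hk⟩ := h.x3
    have hxj : (x ^ 2) ^ ((3 ^ k + 1) / 2) = x := by
      rw [← pow_mul]
      have hodd3 : Odd (3 ^ k) := Odd.pow (by decide)
      obtain ⟨t, ht⟩ := hodd3
      have e4 : 2 * ((3 ^ k + 1) / 2) = 3 ^ k + 1 := by omega
      rw [e4, pow_succ, ← hk, pow_orderOf_eq_one, one_mul]
    intro b hb
    have h6 := hpw ((3 ^ k + 1) / 2) b hb
    rw [hxj] at h6
    exact h6
  -- the action of `x` on `A`
  have hinj : Function.Injective (fun a : ↥A => (⟨x * a * x⁻¹, hxA a a.2⟩ : ↥A)) := by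
    intro a a' haa
    have h3 := congrArg Subtype.val haa
    exact Subtype.ext (mul_left_cancel (mul_right_cancel h3))
  obtain ⟨θ, hθdef⟩ : ∃ θ : ↥A ≃ ↥A, ∀ a : ↥A, ((θ a : ↥A) : S) = x * a * x⁻¹ :=
    ⟨Equiv.ofBijective _ (Finite.injective_iff_bijective.mp hinj), fun a => rfl⟩
  obtain ⟨σ, hσ⟩ : ∃ σ : ↥A →* MulAut ↥M,
      ∀ (a : ↥A) (w : ↥M), ((σ a w : ↥M) : S) = a * w * (a : S)⁻¹ :=
    ⟨(MulAut.conjNormal (H := M)).comp A.subtype, fun a w => rfl⟩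
  obtain ⟨τ, hτ⟩ : ∃ τ : MulAut ↥M, ∀ w : ↥M, ((τ w : ↥M) : S) = x * w * x⁻¹ :=
    ⟨MulAut.conjNormal x, fun w => rfl⟩
  have hθ' : ∀ (a : ↥A) (w : ↥M), τ (σ a w) = σ (θ a) (τ w) := by
    intro a w
    apply Subtype.ext
    simp only [hτ, hσ, hθdef]
    group
  -- the set `V`
  have hVM : V ≤ M := by
    intro v hv
    obtain ⟨m, hm, rfl⟩ := (h.hV v).mp hv
    exact M.mul_mem (h.normal.conj_mem m hm x) (M.inv_mem hm)
  have := Fintype.ofFinite ↥V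
  obtain ⟨Vf, hVfdef⟩ : ∃ Vf : Finset ↥M,
      Vf = Finset.univ.image (fun v : ↥V => (⟨v.1, hVM v.2⟩ : ↥M)) := ⟨_, rfl⟩
  have hVf4 : Vf.card ≤ 4 := by
    rw [hVfdef]
    refine le_trans Finset.card_image_le ?_
    rw [Finset.card_univ, ← Nat.card_eq_fintype_card, h.card]
  have hVf : ∀ w : ↥M, τ w * w ∈ Vf := by
    intro w
    rw [hVfdef, Finset.mem_image]
    have hv : x * (w : S) * x⁻¹ * (w : S)⁻¹ ∈ V := (h.hV _).mpr ⟨w, w.2, rfl⟩
    refine ⟨⟨_, hv⟩, Finset.mem_univ _, Subtype.ext ?_⟩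
    rw [Subgroup.coe_mul, hτ]
    have h3 : (w : S)⁻¹ = w :=
      inv_eq_of_mul_eq_one_left (by rw [← pow_two]; exact h.sq w w.2)
    show x * (w : S) * x⁻¹ * (w : S)⁻¹ = x * (w : S) * x⁻¹ * (w : S)
    rw [h3]
  have h1' : ∀ b₁ ∈ B1.subgroupOf A, ∃ b ∈ B.subgroupOf A, θ b = b₁ := by
    intro b₁ hb₁
    obtain ⟨b, hb, hbe⟩ := (mem1 _).mp (Subgroup.mem_subgroupOf.mp hb₁)
    exact ⟨⟨b, hBA hb⟩, Subgroup.mem_subgroupOf.mpr hb, Subtype.ext (by rw [hθdef]; exact hbe)⟩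
  have h2' : ∀ b₂ ∈ B2.subgroupOf A, ∃ b ∈ B1.subgroupOf A, θ b = b₂ := by
    intro b₂ hb₂
    obtain ⟨b, hb, hbe⟩ := (mem2 _).mp (Subgroup.mem_subgroupOf.mp hb₂)
    exact ⟨⟨b, hB1A hb⟩, Subgroup.mem_subgroupOf.mpr hb, Subtype.ext (by rw [hθdef]; exact hbe)⟩
  have key := ng_abs (W := ↥M) (Ag := ↥A) hW2 hodd σ τ θ hθ' (B.subgroupOf A)
    (B1.subgroupOf A) (B2.subgroupOf A) h1' h2'
    (ng_sup_top r A hA3 B B1 hBA hB1A hB cB1 d01)
    (ng_sup_top r A hA3 B B2 hBA hB2A hB cB2 d02)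
    (ng_sup_top r A hA3 B1 B2 hB1A hB2A cB1 cB2 d12) Vf hVf4 hVf
  intro m hm
  rw [Subgroup.mem_inf] at hm
  have hfixB : ∀ b ∈ B.subgroupOf A, σ b (⟨m, hm.1⟩ : ↥M) = ⟨m, hm.1⟩ := by
    intro b hb
    apply Subtype.ext
    rw [hσ]
    have h3 := (Subgroup.mem_centralizer_iff.mp hm.2) (b : S) (Subgroup.mem_subgroupOf.mp hb)
    show (b : S) * m * (b : S)⁻¹ = m
    rw [h3, mul_inv_cancel_right]
  rw [Subgroup.mem_centralizer_iff]
  intro a ha
  have h4 := congrArg Subtype.val (key ⟨m, hm.1⟩ hfixB ⟨a, ha⟩)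
  rw [hσ] at h4
  exact mul_inv_eq_iff_eq_mul.mp h4

end Cfsg.Agent.Helper67.NGK1
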