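import Cfsg.Agent.Helper67.PElt

set_option autoImplicit false

namespace Cfsg.Agent.Helper67

open Pointwise

/-- `x` is a `π`-element: every prime dividing its order lies in `π`. -/
def PiElt (π : Set ℕ) {G : Type*} [Group G] (x : G) : Prop :=
  ∀ p : ℕ, p.Prime → p ∣ orderOf x → p ∈ π

theorem PiElt.of_orderOf_dvd {π : Set ℕ} {G H : Type*} [Group G] [Group H] {x : G} {y : H}
    (hx : PiElt π x) (h : orderOf y ∣ orderOf x) : PiElt π y :=
  fun p hp hpy => hx p hp (hpy.trans h)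

theorem PiElt.map {π : Set ℕ} {G H : Type*} [Group G] [Group H] {x : G}
    (hx : PiElt π x) (f : G →* H) : PiElt π (f x) :=
  hx.of_orderOf_dvd (orderOf_map_dvd f x)

theorem PiElt.conj {π : Set ℕ} {G : Type*} [Group G] {x : G}
    (hx : PiElt π x) (g : G) : PiElt π (g * x * g⁻¹) := by
  have : orderOf (g * x * g⁻¹) = orderOf x := by
    have h : SemiconjBy g x (g * x * g⁻¹) := by
      unfold SemiconjBy; group
    exact (h.orderOf_eq).symm
  exact hx.of_orderOf_dvd (dvd_of_eq this)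

theorem piElt_of_prime_pow {π : Set ℕ} {G : Type*} [Group G] {x : G} {q k : ℕ} (hq : q.Prime)
    (hqπ : q ∈ π) (hx : x ^ q ^ k = 1) : PiElt π x := by
  intro p hp hpx
  have h1 : p ∣ q ^ k := hpx.trans (orderOf_dvd_of_pow_eq_one hx)
  have h2 : p ∣ q := hp.dvd_of_dvd_pow h1
  rw [(Nat.prime_dvd_prime_iff_eq hp hq).mp h2]
  exact hqπ

/-- if a `π`-number power of `x` is a `π`-element then so is `x`. -/
theorem piElt_of_pow {π : Set ℕ} {G : Type*} [Group G] [Finite G] {x : G} {m : ℕ}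
    (hm : ∀ p : ℕ, p.Prime → p ∣ m → p ∈ π) (hx : PiElt π (x ^ m)) : PiElt π x := by
  intro p hp hpx
  have h1 : orderOf x ∣ m * orderOf (x ^ m) := by
    apply orderOf_dvd_of_pow_eq_one
    rw [pow_mul, pow_orderOf_eq_one]
  rcases (hp.dvd_mul).mp (hpx.trans h1) with h | h
  · exact hm p hp h
  · exact hx p hp h

/-- a commuting product of `π`-elements is a `π`-element. -/
theorem PiElt.mul {π : Set ℕ} {G : Type*} [Group G] {x y : G}
    (hx : PiElt π x) (hy : PiElt π y) (hc : Commute x y) : PiElt π (x * y) := by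
  intro p hp hpx
  have h1 : orderOf (x * y) ∣ orderOf x * orderOf y := by
    apply orderOf_dvd_of_pow_eq_one
    rw [hc.mul_pow, pow_mul, pow_orderOf_eq_one, one_pow, one_mul, mul_comm, pow_mul,
      pow_orderOf_eq_one, one_pow]
  rcases (hp.dvd_mul).mp (hpx.trans h1) with h | h
  · exact hx p hp h
  · exact hy p hp h

theorem PiElt.inv {π : Set ℕ} {G : Type*} [Group G] {x : G} (hx : PiElt π x) : PiElt π x⁻¹ := by
  intro p hp hpx
  rw [orderOf_inv] at hpx
  exact hx p hp hpx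

/-- an element that is both a `π`-element and of order dividing a `π'`-number is trivial. -/
theorem eq_one_of_piElt_of_dvd {π : Set ℕ} {G : Type*} [Group G] {x : G} {m : ℕ}
    (hx : PiElt π x) (hm : ∀ p : ℕ, p.Prime → p ∣ m → p ∉ π) (h : orderOf x ∣ m) : x = 1 := by
  rw [← orderOf_eq_one_iff, Nat.eq_one_iff_not_exists_prime_dvd]
  intro p hp hpx
  exact hm p hp (hpx.trans h) (hx p hp hpx)

/-- the elements of a subgroup whose order is a `π`-number are `π`-elements. -/
theorem piElt_of_mem {π : Set ℕ} {G : Type*} [Group G] (B : Subgroup G)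
    (hB : ∀ p : ℕ, p.Prime → p ∣ Nat.card B → p ∈ π) {x : G} (hx : x ∈ B) : PiElt π x := by
  intro p hp hpx
  apply hB p hp
  have := orderOf_dvd_natCard (⟨x, hx⟩ : B)
  rw [Subgroup.orderOf_mk] at this
  exact hpx.trans this

/-- if all elements of a finite subgroup are `π`-elements, its order is a `π`-number. -/
theorem card_pi_of_forall_piElt {π : Set ℕ} {G : Type*} [Group G] [Finite G] (B : Subgroup G)
    (hB : ∀ x ∈ B, PiElt π x) : ∀ p : ℕ, p.Prime → p ∣ Nat.card B → p ∈ π := by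
  intro p hp hpB
  have : Fact p.Prime := ⟨hp⟩
  obtain ⟨y, hy⟩ := exists_prime_orderOf_dvd_card' p hpB
  have := hB y.1 y.2 p hp
  rw [Subgroup.orderOf_coe, hy] at this
  exact this (dvd_refl p)

/-- the usual form of the homogeneity hypothesis: a `π`-element normalizing a `π'`-subgroup
centralizes it. -/
theorem hom_centralizes {G : Type*} [Group G] [Finite G] (π : Set ℕ)
    (hhom : ∀ H : Subgroup G, H ≠ ⊥ → (∀ p : ℕ, p.Prime → p ∣ Nat.card ↥H → p ∉ π) →
      ∀ p : ℕ, p.Prime → p ∣ (Subgroup.centralizer (H : Set G)).relIndex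
        (Subgroup.normalizer (H : Set G)) → p ∉ π)
    (H : Subgroup G) (hH : ∀ p : ℕ, p.Prime → p ∣ Nat.card ↥H → p ∉ π) (h : G)
    (hn : h ∈ Subgroup.normalizer (H : Set G)) (hπ : PiElt π h) : ∀ t ∈ H, h * t = t * h := by
  by_cases hbot : H = ⊥
  · intro t ht
    rw [hbot, Subgroup.mem_bot] at ht
    rw [ht, mul_one, one_mul]
  have key := hhom H hbot hH
  have hmem : h ∈ Subgroup.centralizer (H : Set G) := by
    by_contra hc
    set C' := (Subgroup.centralizer (H : Set G)).subgroupOf (Subgroup.normalizer (H : Set G))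
      with hC'
    have hne : ((⟨h, hn⟩ : Subgroup.normalizer (H : Set G)) :
        Subgroup.normalizer (H : Set G) ⧸ C') ≠ 1 := by
      intro h1
      rw [QuotientGroup.eq_one_iff] at h1
      exact hc (Subgroup.mem_subgroupOf.mp h1)
    have hne' : orderOf ((⟨h, hn⟩ : Subgroup.normalizer (H : Set G)) :
        Subgroup.normalizer (H : Set G) ⧸ C') ≠ 1 := by
      rwa [Ne, orderOf_eq_one_iff]
    obtain ⟨p, hp, hpd⟩ := Nat.exists_prime_and_dvd hne'
    have h1 : p ∈ π := by
      apply hπ p hp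
      have := orderOf_map_dvd (QuotientGroup.mk' C') (⟨h, hn⟩ : Subgroup.normalizer (H : Set G))
      rw [Subgroup.orderOf_mk] at this
      exact hpd.trans this
    have h2 : p ∉ π := by
      apply key p hp
      have := orderOf_dvd_natCard ((⟨h, hn⟩ : Subgroup.normalizer (H : Set G)) :
        Subgroup.normalizer (H : Set G) ⧸ C')
      rw [← Subgroup.index_eq_card] at this
      exact hpd.trans this
    exact h2 h1
  intro t ht
  exact (Subgroup.mem_centralizer_iff.mp hmem t ht).symm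

/-- a `q`-element of a quotient lifts to a `q`-element. -/
theorem exists_lift_prime_pow {G H : Type*} [Group G] [Finite G] [Group H] (f : G →* H)
    (hf : Function.Surjective f) {q : ℕ} (hq : q.Prime) (y : H) (k : ℕ) (hy : y ^ q ^ k = 1) :
    ∃ (x : G) (l : ℕ), x ^ q ^ l = 1 ∧ f x = y := by
  obtain ⟨g₀, rfl⟩ := hf y
  obtain ⟨a, m, hm, ham⟩ := Nat.exists_eq_pow_mul_and_not_dvd (orderOf_pos g₀).ne' q hq.ne_one
  have hcop : m.Coprime (orderOf (f g₀)) := by
    have h1 : orderOf (f g₀) ∣ q ^ k := orderOf_dvd_of_pow_eq_one hy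
    have h2 : m.Coprime (q ^ k) :=
      Nat.Coprime.pow_right k ((Nat.Prime.coprime_iff_not_dvd hq).mpr hm).symm
    exact Nat.Coprime.coprime_dvd_right h1 h2
  obtain ⟨j, hj⟩ := exists_pow_eq_self_of_coprime hcop
  refine ⟨(g₀ ^ m) ^ j, a, ?_, ?_⟩
  · have e : m * (j * q ^ a) = orderOf g₀ * j := by rw [ham]; ring
    rw [← pow_mul, ← pow_mul, e, pow_mul, pow_orderOf_eq_one, one_pow]
  · rw [map_pow, map_pow, hj]

/-- a `q`-element acting on a normal `q'`-subgroup `N`: a subgroup `C` containing every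
invariant `r`-subgroup of `N` (all primes `r`) contains `N`. -/
theorem le_of_invariant_pgroups_le {A : Type*} [Group A] [Finite A] (N : Subgroup A) [N.Normal]
    {q : ℕ} (hq : q.Prime) (hqN : ¬ q ∣ Nat.card N) (g : A) (k : ℕ) (hg : g ^ q ^ k = 1)
    (C : Subgroup A)
    (hC : ∀ r : ℕ, r.Prime → ∀ T : Subgroup A, T ≤ N → IsPGroup r T →
      (∀ t ∈ T, g * t * g⁻¹ ∈ T) → T ≤ C) : N ≤ C := by
  have : Fact q.Prime := ⟨hq⟩
  rw [← Subgroup.relIndex_eq_one, Nat.eq_one_iff_not_exists_prime_dvd]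
  intro r hr hdvd
  have : Fact r.Prime := ⟨hr⟩
  set φ : MulAut N := MulAut.conjNormal g with hφ
  have hφk : φ ^ q ^ k = 1 := by
    rw [hφ, ← map_pow, hg, map_one]
  have hZ : IsPGroup q (Subgroup.zpowers φ) := isPGroup_zpowers_of_pow_eq_one hq hφk
  have hcard : ¬ q ∣ Nat.card (Sylow r N) := by
    intro h
    have P : Sylow r N := default
    exact hqN ((h.trans (Sylow.card_dvd_index P)).trans (Subgroup.index_dvd_card _))
  obtain ⟨T₀, hT₀⟩ := hZ.nonempty_fixed_point_of_prime_not_dvd_card (Sylow r N) hcard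
  have hfix : φ • T₀ = T₀ := hT₀ ⟨φ, Subgroup.mem_zpowers φ⟩
  set T : Subgroup A := (T₀ : Subgroup N).map N.subtype with hT
  have hTN : T ≤ N := Subgroup.map_subtype_le _
  have hTp : IsPGroup r T := T₀.isPGroup'.map _
  have hinv : ∀ t ∈ T, g * t * g⁻¹ ∈ T := by
    rintro t ⟨t₀, ht₀, rfl⟩
    have h1 : φ • t₀ ∈ φ • (T₀ : Subgroup N) := Subgroup.smul_mem_pointwise_smul_iff.mpr ht₀
    rw [← Sylow.pointwise_smul_def, hfix] at h1
    refine ⟨φ • t₀, h1, ?_⟩
    simp [hφ, MulAut.smul_def, MulAut.conjNormal_apply]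
  have hTC : T ≤ C := hC r hr T hTN hTp hinv
  have h1 : C.relIndex N ∣ (T₀ : Subgroup N).index := by
    have : (T₀ : Subgroup N) ≤ C.subgroupOf N := by
      intro t ht
      rw [Subgroup.mem_subgroupOf]
      exact hTC ⟨t, ht, rfl⟩
    exact Subgroup.index_dvd_of_le this
  exact T₀.not_dvd_index (hdvd.trans h1)

/-- membership in the image of a subgroup containing the kernel. -/
theorem mk_mem_map_iff {G : Type*} [Group G] (Q N : Subgroup G) [Q.Normal] (hQN : Q ≤ N) (x : G) :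
    (QuotientGroup.mk' Q x) ∈ N.map (QuotientGroup.mk' Q) ↔ x ∈ N := by
  constructor
  · rintro ⟨n, hn, h⟩
    have h1 : n⁻¹ * x ∈ Q := QuotientGroup.eq.mp h
    have : x = n * (n⁻¹ * x) := by group
    rw [this]; exact N.mul_mem hn (hQN h1)
  · intro hx; exact ⟨x, hx, rfl⟩

/-- if `Q` is the set of `π`-elements of the subgroup `N`, then `N / Q` is a `π'`-group. -/
theorem card_map_pi' {G : Type*} [Group G] [Finite G] (π : Set ℕ) (Q N : Subgroup G) [Q.Normal]
    (hQ : ∀ x, x ∈ Q ↔ x ∈ N ∧ PiElt π x) :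
    ∀ p : ℕ, p.Prime → p ∣ Nat.card (N.map (QuotientGroup.mk' Q)) → p ∉ π := by
  intro p hp hpd hpπ
  have hQN : Q ≤ N := fun x hx => ((hQ x).mp hx).1
  have : Fact p.Prime := ⟨hp⟩
  obtain ⟨y, hy⟩ := exists_prime_orderOf_dvd_card' p hpd
  have hy1 : (y : G ⧸ Q) ^ p ^ 1 = 1 := by
    rw [pow_one, ← hy, ← Subgroup.orderOf_coe, pow_orderOf_eq_one]
  obtain ⟨x, l, hxl, hxy⟩ := exists_lift_prime_pow (QuotientGroup.mk' Q)
    (QuotientGroup.mk'_surjective Q) hp (y : G ⧸ Q) 1 hy1
  have hxN : x ∈ N := (mk_mem_map_iff Q N hQN x).mp (by rw [hxy]; exact y.2)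
  have hxQ : x ∈ Q := (hQ x).mpr ⟨hxN, piElt_of_prime_pow hp hpπ hxl⟩
  have h1 : (y : G ⧸ Q) = 1 := by rw [← hxy]; exact (QuotientGroup.eq_one_iff x).mpr hxQ
  have h2 : orderOf y = 1 := by rw [← Subgroup.orderOf_coe, h1, orderOf_one]
  rw [hy] at h2
  exact hp.ne_one h2

/-- **Core**: under the homogeneity hypothesis, if `Q` is the set of `π`-elements of the normal
subgroup `N`, every `q`-element (`q ∈ π`) of `G` centralizes `N / Q`. -/
theorem core_prime_pow {G : Type*} [Group G] [Finite G] (π : Set ℕ)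
    (hhom : ∀ H : Subgroup G, H ≠ ⊥ → (∀ p : ℕ, p.Prime → p ∣ Nat.card ↥H → p ∉ π) →
      ∀ p : ℕ, p.Prime → p ∣ (Subgroup.centralizer (H : Set G)).relIndex
        (Subgroup.normalizer (H : Set G)) → p ∉ π)
    (Q N : Subgroup G) [Q.Normal] [N.Normal]
    (hQ : ∀ x, x ∈ Q ↔ x ∈ N ∧ PiElt π x)
    {q : ℕ} (hq : q.Prime) (hqπ : q ∈ π) (g : G) (k : ℕ) (hg : g ^ q ^ k = 1) :
    ∀ n ∈ N, QuotientGroup.mk' Q n * QuotientGroup.mk' Q g =
      QuotientGroup.mk' Q g * QuotientGroup.mk' Q n := by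
  have hQN : Q ≤ N := fun x hx => ((hQ x).mp hx).1
  have hQπ : ∀ x ∈ Q, PiElt π x := fun x hx => ((hQ x).mp hx).2
  set f := QuotientGroup.mk' Q with hf
  have hfs : Function.Surjective f := QuotientGroup.mk'_surjective Q
  have hf1 : ∀ x, x ∈ Q → f x = 1 := fun x hx => (QuotientGroup.eq_one_iff x).mpr hx
  have hf1' : ∀ x, f x = 1 → x ∈ Q := fun x hx => (QuotientGroup.eq_one_iff x).mp hx
  have hNn : (N.map f).Normal := Subgroup.Normal.map inferInstance f hfs
  have hcardN := card_map_pi' π Q N hQ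
  have hgk : (f g) ^ q ^ k = 1 := by rw [← map_pow, hg, map_one]
  have key : N.map f ≤ Subgroup.centralizer ({f g} : Set (G ⧸ Q)) := by
    apply le_of_invariant_pgroups_le (N.map f) hq (fun h => hcardN q hq h hqπ) (f g) k hgk
    intro r hr T' hT'N hT'p hT'inv
    by_cases hbot : T' = ⊥
    · rw [hbot]; exact bot_le
    have : Fact r.Prime := ⟨hr⟩
    have hrπ : r ∉ π := by
      apply hcardN r hr
      have h1 : r ∣ Nat.card T' := by
        rcases hT'p.card_eq_or_dvd with h | h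
        · exact absurd (Subgroup.card_eq_one.mp h) hbot
        · exact h
      exact h1.trans (Subgroup.card_dvd_of_le hT'N)
    set T : Subgroup G := T'.comap f with hT
    obtain P : Sylow r T := default
    set R : Subgroup G := (P : Subgroup T).map T.subtype with hR
    have hRp : IsPGroup r R := P.isPGroup'.map _
    have hRT : R ≤ T := Subgroup.map_subtype_le _
    -- every element of `T` is congruent modulo `Q` to an element of `R`
    have hS : ∀ t ∈ T, ∃ s ∈ R, f s = f t := by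
      intro t ht
      have hsurj : Function.Surjective (f.subgroupComap T') :=
        f.subgroupComap_surjective_of_surjective T' hfs
      have hP' : ((P.mapSurjective hsurj : Sylow r T') : Subgroup T') = ⊤ :=
        ((P.mapSurjective hsurj).is_maximal' (hT'p.to_subgroup ⊤) le_top).symm
      have h1 : (⟨f t, ht⟩ : T') ∈ ((P.mapSurjective hsurj : Sylow r T') : Subgroup T') := by
        rw [hP']; trivial
      rw [Sylow.coe_mapSurjective] at h1
      obtain ⟨s, hs, hst⟩ := h1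
      exact ⟨s, ⟨s, hs, rfl⟩, congrArg Subtype.val hst⟩
    have hconj : ∀ u ∈ R, g * u * g⁻¹ ∈ Q ⊔ R := by
      intro u hu
      have h1 : g * u * g⁻¹ ∈ T := by
        rw [hT, Subgroup.mem_comap]
        have : f (g * u * g⁻¹) = f g * f u * (f g)⁻¹ := by simp
        rw [this]
        exact hT'inv _ (hRT hu)
      obtain ⟨s, hs, hst⟩ := hS _ h1
      have h2 : s⁻¹ * (g * u * g⁻¹) ∈ Q := by
        apply hf1'
        rw [map_mul, map_inv, hst, inv_mul_cancel]
      have h3 : g * u * g⁻¹ = s * (s⁻¹ * (g * u * g⁻¹)) := by group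
      rw [h3]
      exact Subgroup.mul_mem _ ((le_sup_right : R ≤ Q ⊔ R) hs) ((le_sup_left : Q ≤ Q ⊔ R) h2)
    have hcop : (Nat.card Q).Coprime r := by
      rw [Nat.coprime_comm]
      apply (Nat.Prime.coprime_iff_not_dvd hr).mpr
      intro h
      exact hrπ (card_pi_of_forall_piElt Q hQπ r hr h)
    obtain ⟨u, hu, hun⟩ := exists_mem_normal_conj Q R hRp hcop g hconj
    set h := u⁻¹ * g with hh
    have hfh : f h = f g := by
      rw [hh, map_mul, map_inv, hf1 u hu, inv_one, one_mul]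
    have hπh : PiElt π h := by
      apply piElt_of_pow (m := q ^ k)
      · intro p hp hpd
        rw [(Nat.prime_dvd_prime_iff_eq hp hq).mp (hp.dvd_of_dvd_pow hpd)]; exact hqπ
      · apply hQπ
        apply hf1'
        rw [map_pow, hfh, hgk]
    have hRπ' : ∀ p : ℕ, p.Prime → p ∣ Nat.card R → p ∉ π := by
      intro p hp hpd
      obtain ⟨e, he⟩ := IsPGroup.iff_card.mp hRp
      rw [he] at hpd
      rw [(Nat.prime_dvd_prime_iff_eq hp hr).mp (hp.dvd_of_dvd_pow hpd)]; exact hrπ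
    have hcent := hom_centralizes π hhom R hRπ' h hun hπh
    intro t' ht'
    rw [Subgroup.mem_centralizer_singleton_iff]
    obtain ⟨t, rfl⟩ := hfs t'
    obtain ⟨s, hs, hst⟩ := hS t ht'
    rw [← hst, ← hfh, ← map_mul, ← map_mul, hcent s hs]
  intro n hn
  have := key ⟨n, hn, rfl⟩
  exact Subgroup.mem_centralizer_singleton_iff.mp this

/-- **Core** for `π`-elements of the quotient. -/
theorem core_piElt {G : Type*} [Group G] [Finite G] (π : Set ℕ)
    (hhom : ∀ H : Subgroup G, H ≠ ⊥ → (∀ p : ℕ, p.Prime → p ∣ Nat.card ↥H → p ∉ π) →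
      ∀ p : ℕ, p.Prime → p ∣ (Subgroup.centralizer (H : Set G)).relIndex
        (Subgroup.normalizer (H : Set G)) → p ∉ π)
    (Q N : Subgroup G) [Q.Normal] [N.Normal]
    (hQ : ∀ x, x ∈ Q ↔ x ∈ N ∧ PiElt π x) (x : G ⧸ Q) (hx : PiElt π x) :
    ∀ n ∈ N, x * QuotientGroup.mk' Q n = QuotientGroup.mk' Q n * x := by
  intro n hn
  have hc : Commute (QuotientGroup.mk' Q n) x := by
    apply commute_of_prime_pow_parts
    intro p k hp hpk
    rcases Nat.eq_zero_or_pos k with hk | hk
    · subst hk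
      rw [pow_zero, Nat.div_one, pow_orderOf_eq_one]
      exact Commute.one_right _
    have hpπ : p ∈ π := hx p hp ((dvd_pow_self p hk.ne').trans hpk)
    have hy : (x ^ (orderOf x / p ^ k)) ^ p ^ k = 1 := by
      rw [← pow_mul, Nat.div_mul_cancel hpk, pow_orderOf_eq_one]
    obtain ⟨g, l, hgl, hgy⟩ := exists_lift_prime_pow (QuotientGroup.mk' Q)
      (QuotientGroup.mk'_surjective Q) hp _ k hy
    rw [← hgy]
    exact core_prime_pow π hhom Q N hQ hp hpπ g l hgl n hn
  exact hc.eq.symm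

/-- Schur–Zassenhaus step: if `N` is a normal `π'`-subgroup of `A` centralized by all `π`-elements
and `M / N` is a `π`-group, the `π`-elements of `M` form a subgroup. -/
theorem exists_piElt_subgroup {A : Type*} [Group A] [Finite A] (π : Set ℕ) (N M : Subgroup A)
    [N.Normal] (hNM : N ≤ M) (hN : ∀ p : ℕ, p.Prime → p ∣ Nat.card N → p ∉ π)
    (hMN : ∀ p : ℕ, p.Prime → p ∣ N.relIndex M → p ∈ π)
    (hcent : ∀ x : A, PiElt π x → ∀ n ∈ N, x * n = n * x) :
    ∃ B : Subgroup A, ∀ x : A, x ∈ B ↔ x ∈ M ∧ PiElt π x := by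
  set N' := N.subgroupOf M with hN'
  have hcop : (Nat.card N').Coprime N'.index := by
    rw [hN', card_subgroupOf_of_le hNM]
    apply Nat.coprime_of_dvd
    intro p hp h1 h2
    exact hN p hp h1 (hMN p hp h2)
  obtain ⟨H, hH⟩ := Subgroup.exists_right_complement'_of_coprime hcop
  set B : Subgroup A := H.map M.subtype with hB
  have hBcard : Nat.card B = N.relIndex M := by
    rw [hB, Subgroup.card_map_of_injective (Subgroup.subtype_injective M), ← hH.symm.index_eq_card]
    rfl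
  have hBπ : ∀ x ∈ B, PiElt π x := fun x hx => piElt_of_mem B (by rw [hBcard]; exact hMN) hx
  refine ⟨B, fun x => ⟨fun hx => ⟨Subgroup.map_subtype_le _ hx, hBπ x hx⟩, ?_⟩⟩
  rintro ⟨hxM, hxπ⟩
  obtain ⟨⟨n, b⟩, hnb⟩ := hH.2 ⟨x, hxM⟩
  have hnN : ((n : M) : A) ∈ N := Subgroup.mem_subgroupOf.mp n.2
  have hb : ((b : M) : A) ∈ B := ⟨b, b.2, rfl⟩
  have hx : x = ((n : M) : A) * ((b : M) : A) := (congrArg Subtype.val hnb).symm
  have hxn := hcent x hxπ _ hnN
  have hxb : Commute x ((b : M) : A) := by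
    have e : ((b : M) : A) = ((n : M) : A)⁻¹ * x := by rw [hx]; group
    have hc1 : Commute x ((n : M) : A) := hxn
    rw [e]
    exact (hc1.inv_right).mul_right (Commute.refl x)
  have hnπ : PiElt π ((n : M) : A) := by
    have e : ((n : M) : A) = x * ((b : M) : A)⁻¹ := by rw [hx]; group
    rw [e]
    exact PiElt.mul hxπ (hBπ _ hb).inv hxb.inv_right
  have hn1 : ((n : M) : A) = 1 := by
    apply eq_one_of_piElt_of_dvd hnπ hN
    have := orderOf_dvd_natCard (⟨_, hnN⟩ : N)
    rwa [Subgroup.orderOf_mk] at this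
  rw [hx, hn1, one_mul]; exact hb

/-- **Step lemma**: under the homogeneity hypothesis, if `Q` is the set of `π`-elements of the
normal subgroup `N` and `M / N` is a `π`-group, then the `π`-elements of `M` form a subgroup. -/
theorem step_pi {G : Type*} [Group G] [Finite G] (π : Set ℕ)
    (hhom : ∀ H : Subgroup G, H ≠ ⊥ → (∀ p : ℕ, p.Prime → p ∣ Nat.card ↥H → p ∉ π) →
      ∀ p : ℕ, p.Prime → p ∣ (Subgroup.centralizer (H : Set G)).relIndex
        (Subgroup.normalizer (H : Set G)) → p ∉ π)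
    (Q N M : Subgroup G) [N.Normal]
    (hQ : ∀ x, x ∈ Q ↔ x ∈ N ∧ PiElt π x) (hNM : N ≤ M)
    (hMN : ∀ p : ℕ, p.Prime → p ∣ N.relIndex M → p ∈ π) :
    ∃ R : Subgroup G, ∀ x : G, x ∈ R ↔ x ∈ M ∧ PiElt π x := by
  have hQn : Q.Normal := by
    refine ⟨fun x hx g => ?_⟩
    rw [hQ] at hx ⊢
    exact ⟨(inferInstance : N.Normal).conj_mem x hx.1 g, hx.2.conj g⟩
  have hQN : Q ≤ N := fun x hx => ((hQ x).mp hx).1
  have hQπ : ∀ x ∈ Q, PiElt π x := fun x hx => ((hQ x).mp hx).2
  set f := QuotientGroup.mk' Q with hf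
  have hfs : Function.Surjective f := QuotientGroup.mk'_surjective Q
  have hNn : (N.map f).Normal := Subgroup.Normal.map inferInstance f hfs
  have hrel : (N.map f).relIndex (M.map f) = N.relIndex M := by
    rw [← Subgroup.relIndex_comap, Subgroup.comap_map_eq_self]
    rw [hf, QuotientGroup.ker_mk']; exact hQN
  obtain ⟨B, hB⟩ := exists_piElt_subgroup π (N.map f) (M.map f) (Subgroup.map_mono hNM)
    (card_map_pi' π Q N hQ) (by rw [hrel]; exact hMN)
    (fun x hx n' hn' => by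
      obtain ⟨n, hn, rfl⟩ := hn'
      exact core_piElt π hhom Q N hQ x hx n hn)
  refine ⟨B.comap f, fun x => ?_⟩
  rw [Subgroup.mem_comap, hB, hf, mk_mem_map_iff Q M (hQN.trans hNM)]
  constructor
  · rintro ⟨hxM, hxπ⟩
    refine ⟨hxM, ?_⟩
    apply piElt_of_pow (m := orderOf (f x)) hxπ
    apply hQπ
    rw [← QuotientGroup.eq_one_iff, QuotientGroup.mk_pow]
    exact pow_orderOf_eq_one (f x)
  · rintro ⟨hxM, hxπ⟩
    exact ⟨hxM, hxπ.map f⟩

end Cfsg.Agent.Helper67
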