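import Mathlib

set_option autoImplicit false

namespace Cfsg.Agent.Helper67

/-- PIECE INV -/
theorem rmd43_inv {G : Type*} [Group G] {V : Type*} [AddCommGroup V] [Module ℂ V]
    [FiniteDimensional ℂ V] (ρ : Representation ℂ G V) (Z : Subgroup G) [Fintype Z]
    (hodd : Odd (Nat.card Z)) (t : G) (ht : ∀ z ∈ Z, t * z * t⁻¹ = z⁻¹)
    (hsum : ∑ z : Z, LinearMap.trace ℂ V (ρ (t * (z : G))) = 0) :
    LinearMap.trace ℂ V (ρ t) = 0 := by
  have key : ∀ z : Z, LinearMap.trace ℂ V (ρ (t * (z : G))) = LinearMap.trace ℂ V (ρ t) := by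
    intro z
    obtain ⟨k, hk⟩ := hodd
    set w : G := ((z : G)⁻¹) ^ (k + 1) with hw
    have hwZ : w ∈ Z := Z.pow_mem (Z.inv_mem z.2) _
    have h1 : ((z : G)⁻¹) ^ Nat.card Z = 1 := by
      exact orderOf_dvd_iff_pow_eq_one.1 (Subgroup.orderOf_dvd_natCard Z (Z.inv_mem z.2))
    have hww : w * w = (z : G)⁻¹ := by
      rw [hw, ← pow_add]
      have : k + 1 + (k + 1) = Nat.card Z + 1 := by omega
      rw [this, pow_succ, h1, one_mul]
    have e : t * (z : G) = w * t * w⁻¹ := by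
      have h2 := ht w hwZ
      have h3 := ht z z.2
      have h4 : t * (z : G) = (z : G)⁻¹ * t := by rw [← h3]; group
      have h5 : t * w⁻¹ = w * t := by
        have h6 : t * w⁻¹ * t⁻¹ = w := by
          have : t * w⁻¹ * t⁻¹ = (t * w * t⁻¹)⁻¹ := by group
          rw [this, h2, inv_inv]
        calc t * w⁻¹ = (t * w⁻¹ * t⁻¹) * t := by group
          _ = w * t := by rw [h6]
      rw [h4, ← hww, mul_assoc w t, h5, mul_assoc]
    have e2 : ρ (w * t * w⁻¹) = ρ w * ρ t * ρ w⁻¹ := by rw [map_mul, map_mul]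
    have e3 : ρ w⁻¹ * ρ w = 1 := by rw [← map_mul, inv_mul_cancel, map_one]
    rw [e, e2, LinearMap.trace_mul_comm, ← mul_assoc, e3, one_mul]
  rw [Finset.sum_congr rfl (fun z _ => key z), Finset.sum_const, Finset.card_univ,
    nsmul_eq_mul] at hsum
  rcases mul_eq_zero.1 hsum with h | h
  · exact absurd (Nat.cast_eq_zero.1 h) Fintype.card_ne_zero
  · exact h

end Cfsg.Agent.Helper67
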