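import Cfsg.Agent.Helper67.Conj

set_option autoImplicit false

namespace Cfsg.Agent.Helper67

open Finset

/-- In a finite `p`-group, `p`-th powers lie in every maximal subgroup. -/
theorem pow_prime_mem_of_isCoatom {P : Type*} [Group P] [Finite P] {p : ℕ} [hp : Fact p.Prime]
    (hP : IsPGroup p P) (M : Subgroup P) (hM : IsCoatom M) (x : P) : x ^ p ∈ M := by
  have : Group.IsNilpotent P := hP.isNilpotent
  have hMn : M.Normal :=
    Subgroup.NormalizerCondition.normal_of_coatom M Group.normalizerCondition_of_isNilpotent hM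
  by_contra hx
  have htop : M ⊔ Subgroup.zpowers (x ^ p) = ⊤ := by
    apply hM.2
    refine lt_of_le_of_ne le_sup_left ?_
    intro heq
    apply hx
    rw [heq]
    exact Subgroup.mem_sup_right (Subgroup.mem_zpowers _)
  have hxmem : x ∈ M ⊔ Subgroup.zpowers (x ^ p) := htop ▸ Subgroup.mem_top x
  rw [← SetLike.mem_coe, Subgroup.normal_mul] at hxmem
  obtain ⟨m, hm, z, hz, hmz⟩ := Set.mem_mul.mp hxmem
  obtain ⟨j, rfl⟩ := Subgroup.mem_zpowers_iff.mp hz
  have h1 : (QuotientGroup.mk x : P ⧸ M) = ((QuotientGroup.mk x : P ⧸ M) ^ p) ^ j := by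
    conv_lhs => rw [← hmz]
    rw [QuotientGroup.mk_mul, (QuotientGroup.eq_one_iff m).mpr hm, one_mul,
      QuotientGroup.mk_zpow, QuotientGroup.mk_pow]
  set xb : P ⧸ M := QuotientGroup.mk x with hxb
  have hxb1 : xb ≠ 1 := by
    intro h1'
    apply hx
    rw [← QuotientGroup.eq_one_iff, QuotientGroup.mk_pow, ← hxb, h1', one_pow]
  have h2 : xb ^ ((p : ℤ) * j - 1) = 1 := by
    rw [zpow_sub, zpow_one, zpow_mul, zpow_natCast, ← h1, mul_inv_cancel]
  have h3 : (orderOf xb : ℤ) ∣ (p : ℤ) * j - 1 := orderOf_dvd_iff_zpow_eq_one.mpr h2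
  have h4 : p ∣ orderOf xb := (hP.to_quotient M).dvd_orderOf hxb1
  have h5 : (p : ℤ) ∣ (p : ℤ) * j - 1 := (Int.natCast_dvd_natCast.mpr h4).trans h3
  have h6 : (p : ℤ) ∣ 1 := by
    have := Dvd.dvd.sub (Dvd.intro j rfl : (p : ℤ) ∣ (p : ℤ) * j) h5
    simpa using this
  have h7 : p ∣ 1 := by exact_mod_cast h6
  exact hp.out.one_lt.ne' (Nat.dvd_one.mp h7)

/-- In a finite `p`-group, `p`-th powers lie in the Frattini subgroup. -/
theorem pow_prime_mem_frattini {P : Type*} [Group P] [Finite P] {p : ℕ} [Fact p.Prime]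
    (hP : IsPGroup p P) (x : P) : x ^ p ∈ frattini P := by
  simp only [frattini, Order.radical, Subgroup.mem_iInf]
  intro M hM
  exact pow_prime_mem_of_isCoatom hP M hM x

/-- Cauchy–Schwarz count of pairs with equal squares. -/
theorem sq_card_le_card_mul_sum_sqrt {P : Type*} [Group P] [Fintype P] [DecidableEq P]
    (Φ : Subgroup P) (hΦ : ∀ x : P, x ^ 2 ∈ Φ) :
    (Fintype.card P) ^ 2 ≤
      Nat.card Φ * ∑ g : P, (univ.filter (fun h : P => h ^ 2 = g ^ 2)).card := by
  classical
  set sq : P → P := fun g => g ^ 2 with hsq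
  set s : Finset P := univ.image sq with hs
  set r : P → ℕ := fun a => (univ.filter (fun h : P => sq h = a)).card with hr
  have h1 : Fintype.card P = ∑ a ∈ s, r a := by
    rw [← Finset.card_univ]; exact Finset.card_eq_sum_card_image sq univ
  have h2 : ∑ g : P, (univ.filter (fun h : P => h ^ 2 = g ^ 2)).card = ∑ a ∈ s, r a ^ 2 := by
    have h3 : ∑ g : P, r (sq g) = ∑ a ∈ s, (univ.filter (fun g => sq g = a)).card • r a :=
      Finset.sum_comp r sq
    have h4 : ∀ g : P, (univ.filter (fun h : P => h ^ 2 = g ^ 2)).card = r (sq g) := fun g => rfl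
    simp_rw [h4]
    rw [h3]
    apply Finset.sum_congr rfl
    intro a _
    rw [smul_eq_mul, pow_two]
  have h3 : s.card ≤ Nat.card Φ := by
    have hΦc : Nat.card Φ = (Φ : Set P).ncard := Nat.card_coe_set_eq (Φ : Set P)
    rw [← Set.ncard_coe_finset, hΦc]
    apply Set.ncard_le_ncard _ (Set.toFinite _)
    intro a ha
    simp only [hs, coe_image, coe_univ, Set.image_univ, Set.mem_range] at ha
    obtain ⟨g, rfl⟩ := ha
    exact hΦ g
  rw [h2, h1]
  calc (∑ a ∈ s, r a) ^ 2 ≤ s.card * ∑ a ∈ s, r a ^ 2 := sq_sum_le_card_mul_sum_sq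
    _ ≤ Nat.card Φ * ∑ a ∈ s, r a ^ 2 := Nat.mul_le_mul_right _ h3

/-- Burnside's lemma for the conjugation action on the solutions of `x ^ 2 = 1`. -/
theorem exists_card_orbits_sq_one {P : Type*} [Group P] [Fintype P] [DecidableEq P] :
    ∃ k : ℕ, (∑ g : P, (univ.filter (fun x : P => x ^ 2 = 1 ∧ g * x * g⁻¹ = x)).card) =
        k * Fintype.card P ∧
      k ≤ Nat.card {c : ConjClasses P // ∃ y : P, ConjClasses.mk y = c ∧ orderOf y = 2} + 1 ∧
      k ≤ Nat.card (Subgroup.closure {y : P | orderOf y = 2}) := by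
  classical
  let X := {x : P // x ^ 2 = 1}
  let _ : MulAction P X :=
    { smul := fun g x => ⟨g * x.1 * g⁻¹, by rw [conj_pow, x.2, mul_one, mul_inv_cancel]⟩
      one_smul := fun x => Subtype.ext (show 1 * x.1 * 1⁻¹ = x.1 by simp)
      mul_smul := fun g h x => Subtype.ext
        (show (g * h) * x.1 * (g * h)⁻¹ = g * (h * x.1 * h⁻¹) * g⁻¹ by group) }
  have hsmul : ∀ (g : P) (x : X), ((g • x : X) : P) = g * x.1 * g⁻¹ := fun _ _ => rfl
  have : ∀ g : P, Fintype (MulAction.fixedBy X g) := fun g => Fintype.ofFinite _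
  have : Fintype (Quotient (MulAction.orbitRel P X)) := Fintype.ofFinite _
  have hB := MulAction.sum_card_fixedBy_eq_card_orbits_mul_card_group P X
  refine ⟨Fintype.card (Quotient (MulAction.orbitRel P X)), ?_, ?_, ?_⟩
  · rw [← hB]
    apply Finset.sum_congr rfl
    intro g _
    rw [← Fintype.card_subtype]
    apply Fintype.card_congr
    exact
      { toFun := fun x => ⟨⟨x.1, x.2.1⟩, Subtype.ext x.2.2⟩
        invFun := fun y => ⟨y.1.1, y.1.2, congrArg Subtype.val y.2⟩
        left_inv := fun x => rfl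
        right_inv := fun y => rfl }
  · let S := {c : ConjClasses P // ∃ y : P, ConjClasses.mk y = c ∧ orderOf y = 2}
    have hsq : ∀ c : S, (Classical.choose c.2) ^ 2 = 1 := by
      intro c
      have := (Classical.choose_spec c.2).2
      exact orderOf_dvd_iff_pow_eq_one.mp (dvd_of_eq this)
    let f : Option S → Quotient (MulAction.orbitRel P X) := fun o =>
      match o with
      | none => Quotient.mk'' (⟨1, one_pow 2⟩ : X)
      | some c => Quotient.mk'' (⟨Classical.choose c.2, hsq c⟩ : X)
    have hf : Function.Surjective f := by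
      intro q
      induction q using Quotient.inductionOn' with
      | h x =>
        by_cases hx1 : x.1 = 1
        · refine ⟨none, ?_⟩
          have : x = ⟨1, one_pow 2⟩ := Subtype.ext hx1
          rw [this]
        · have hord : orderOf x.1 = 2 := orderOf_eq_prime x.2 hx1
          let c : S := ⟨ConjClasses.mk x.1, x.1, rfl, hord⟩
          refine ⟨some c, ?_⟩
          apply Quotient.sound'
          have hc := (Classical.choose_spec c.2).1
          have hconj : IsConj x.1 (Classical.choose c.2) :=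
            (ConjClasses.mk_eq_mk_iff_isConj.mp hc).symm
          obtain ⟨g, hg⟩ := isConj_iff.mp hconj
          rw [MulAction.orbitRel_apply, MulAction.mem_orbit_iff]
          exact ⟨g, Subtype.ext hg⟩
    have := Nat.card_le_card_of_surjective f hf
    rw [Nat.card_eq_fintype_card, Finite.card_option] at this
    exact this
  · have h1 : Fintype.card (Quotient (MulAction.orbitRel P X)) ≤ Nat.card X := by
      have := Nat.card_le_card_of_surjective (Quotient.mk'' : X → Quotient (MulAction.orbitRel P X))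
        Quotient.mk''_surjective
      rwa [Nat.card_eq_fintype_card] at this
    refine h1.trans ?_
    let ι : X → Subgroup.closure {y : P | orderOf y = 2} := fun x => ⟨x.1, by
      by_cases hx1 : x.1 = 1
      · rw [hx1]; exact Subgroup.one_mem _
      · exact Subgroup.subset_closure (orderOf_eq_prime x.2 hx1)⟩
    apply Nat.card_le_card_of_injective ι
    intro a b hab
    exact Subtype.ext (congrArg (fun z : Subgroup.closure {y : P | orderOf y = 2} => (z : P)) hab)

end Cfsg.Agent.Helper67
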