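import Mathlib
import Cfsg.Prelude.Def_GeometricClasses
import Cfsg.Agent.Helper71.T4Defs
import Cfsg.Agent.Helper97.OForm
import Cfsg.Agent.Helper96.T5Defs
import Cfsg.Agent.Helper29.T5GMA
import Cfsg.Agent.Helper99.T5GMB
import Cfsg.Agent.Helper51.T5L6P
import Cfsg.Agent.Helper67.T5T2A

/-!
# CALL S5704 (helper96), PIECE L6A (helper67)

`a = 4`: an element `Gm d w (dm x y) S` of `M` (with (NSW)) gives
`1 + dm x y ⊗ (rk w d + rk d w + β rk d d) ∈ M`.
-/

set_option autoImplicit false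
set_option linter.unusedVariables false
set_option linter.unusedSectionVars false

namespace Cfsg.Agent.Helper67.T5L6A

open Matrix Cfsg Cfsg.Geo Cfsg.Agent.Helper71.T4 Cfsg.Agent.Helper96.T5
open scoped Kronecker

section General

variable {F : Type*} [Field F] {ι : Type*} [Fintype ι] [DecidableEq ι]

/-- A vector orthogonal to everything is zero. -/
theorem zero_of_perp (J : Matrix ι ι F) (halt : ∀ x, bf J x x = 0) (hdet : J.det ≠ 0)
    (z : ι → F) (hz : ∀ x, bf J x z = 0) : z = 0 := by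
  by_contra hne
  obtain ⟨y, hy⟩ := exists_bf_eq_one J hdet z hne
  rw [bf_swap J halt, hz y] at hy
  simp at hy

/-- Two matrices with the same action on vectors are equal. -/
theorem ext_mulVec' (M N : Matrix ι ι F) (h : ∀ w, M *ᵥ w = N *ᵥ w) : M = N := by
  ext i j
  have := congrFun (h (Pi.single j 1)) i
  simpa using this

/-- `dm x y` is self-adjoint. -/
theorem adj_dm (J : Matrix ι ι F) (halt : ∀ x, bf J x x = 0) (hdet : J.det ≠ 0)
    (x y : ι → F) : adj J (dm J x y) = dm J x y := by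
  apply ext_mulVec'
  intro v
  have h0 : adj J (dm J x y) *ᵥ v - dm J x y *ᵥ v = 0 := by
    apply zero_of_perp J halt hdet
    intro u
    rw [bf_sub_right, ← bf_adj J hdet, dm_mulVec, dm_mulVec, bf_sub_left, bf_smul_left,
      bf_smul_left, bf_sub_right, bf_smul_right, bf_smul_right, bf_swap J halt v x,
      bf_swap J halt v y]
    ring
  exact sub_eq_zero.1 h0

/-- A symplectic basis of `F⁴` extending an isotropic pair. -/
theorem symp_basis (J : Matrix (Fin 4) (Fin 4) F) (halt : ∀ x, bf J x x = 0) (hdet : J.det ≠ 0)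
    (x y : Fin 4 → F) (hx : x ≠ 0) (hind : ∀ c : F, y ≠ c • x) (hxy : bf J x y = 0) :
    ∃ x' y' : Fin 4 → F, ∀ v : Fin 4 → F,
      v = bf J v x' • x - bf J v x • x' + bf J v y' • y - bf J v y • y' := by
  have hy0 : y ≠ 0 := fun h0 => hind 0 (by rw [h0, zero_smul])
  have hind' : ∀ c : F, x ≠ c • y := by
    intro c hc
    by_cases hc0 : c = 0
    · rw [hc0, zero_smul] at hc; exact hx hc
    · apply hind c⁻¹
      rw [hc, smul_smul, inv_mul_cancel₀ hc0, one_smul]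
  have hyx : bf J y x = 0 := by rw [bf_swap J halt, hxy, neg_zero]
  obtain ⟨w, hw1, hw2⟩ := T5T2A.exists_perp_ne J halt hdet y x hy0 hind'
  obtain ⟨w', hw1', hw2'⟩ := T5T2A.exists_perp_ne J halt hdet x y hx hind
  obtain ⟨x', hx'def⟩ : ∃ x' : Fin 4 → F, x' = (bf J x w)⁻¹ • w := ⟨_, rfl⟩
  have hxx' : bf J x x' = 1 := by rw [hx'def, bf_smul_right, inv_mul_cancel₀ hw2]
  have hx'y : bf J x' y = 0 := by rw [hx'def, bf_smul_left, hw1, mul_zero]
  have hyx' : bf J y x' = 0 := by rw [bf_swap J halt, hx'y, neg_zero]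
  have hx'x : bf J x' x = -1 := by rw [bf_swap J halt, hxx']
  obtain ⟨y'', hy''def⟩ : ∃ y'' : Fin 4 → F, y'' = (bf J y w')⁻¹ • w' := ⟨_, rfl⟩
  have hyy'' : bf J y y'' = 1 := by rw [hy''def, bf_smul_right, inv_mul_cancel₀ hw2']
  have hy''x : bf J y'' x = 0 := by rw [hy''def, bf_smul_left, hw1', mul_zero]
  have hxy'' : bf J x y'' = 0 := by rw [bf_swap J halt, hy''x, neg_zero]
  obtain ⟨y', hy'def⟩ : ∃ y' : Fin 4 → F, y' = y'' + bf J x' y'' • x := ⟨_, rfl⟩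
  have hyy' : bf J y y' = 1 := by
    rw [hy'def, bf_add_right, bf_smul_right, hyy'', hyx, mul_zero, add_zero]
  have hxy' : bf J x y' = 0 := by
    rw [hy'def, bf_add_right, bf_smul_right, hxy'', halt, mul_zero, add_zero]
  have hx'y' : bf J x' y' = 0 := by
    rw [hy'def, bf_add_right, bf_smul_right, hx'x]; ring
  have hy'x : bf J y' x = 0 := by rw [bf_swap J halt, hxy', neg_zero]
  have hy'y : bf J y' y = -1 := by rw [bf_swap J halt, hyy']
  have hy'x' : bf J y' x' = 0 := by rw [bf_swap J halt, hx'y', neg_zero]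
  refine ⟨x', y', fun v => ?_⟩
  -- the four vectors span
  have hli : LinearIndependent F ![x, y, x', y'] := by
    rw [Fintype.linearIndependent_iff]
    intro c hc
    rw [Fin.sum_univ_four] at hc
    simp only [Matrix.cons_val_zero, Matrix.cons_val_one, Matrix.cons_val_two,
      Matrix.cons_val_three, Matrix.head_cons, Matrix.tail_cons] at hc
    have e0 := congrArg (fun t => bf J t x') hc
    have e1 := congrArg (fun t => bf J t y') hc
    have e2 := congrArg (fun t => bf J t x) hc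
    have e3 := congrArg (fun t => bf J t y) hc
    simp only [bf_add_left, bf_smul_left, bf_zero_left, hxx', hyx', halt, hy'x', hxy', hyy',
      hx'y', hyx, hx'x, hy'x, hxy, hx'y, hy'y] at e0 e1 e2 e3
    intro i
    fin_cases i
    · simpa using e0
    · simpa using e1
    · simpa using e2
    · simpa using e3
  have hspan : Submodule.span F (Set.range ![x, y, x', y']) = ⊤ :=
    hli.span_eq_top_of_card_eq_finrank' (by simp)
  obtain ⟨r, hr⟩ : ∃ r : Fin 4 → F,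
      r = v - (bf J v x' • x - bf J v x • x' + bf J v y' • y - bf J v y • y') := ⟨_, rfl⟩
  have hr1 : bf J r x = 0 := by
    rw [hr]
    simp only [bf_sub_left, bf_add_left, bf_smul_left, halt, hx'x, hyx, hy'x]
    ring
  have hr2 : bf J r y = 0 := by
    rw [hr]
    simp only [bf_sub_left, bf_add_left, bf_smul_left, halt, hxy, hx'y, hy'y]
    ring
  have hr3 : bf J r x' = 0 := by
    rw [hr]
    simp only [bf_sub_left, bf_add_left, bf_smul_left, halt, hxx', hyx', hy'x']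
    ring
  have hr4 : bf J r y' = 0 := by
    rw [hr]
    simp only [bf_sub_left, bf_add_left, bf_smul_left, halt, hxy', hx'y', hyy']
    ring
  have hr0 : r = 0 := by
    apply zero_of_perp J halt hdet
    intro u
    rw [bf_swap J halt]
    have hu : u ∈ Submodule.span F (Set.range ![x, y, x', y']) := by rw [hspan]; trivial
    obtain ⟨c, hc⟩ := (Submodule.mem_span_range_iff_exists_fun F).1 hu
    rw [← hc, Fin.sum_univ_four]
    simp only [Matrix.cons_val_zero, Matrix.cons_val_one, Matrix.cons_val_two,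
      Matrix.cons_val_three, Matrix.head_cons, Matrix.tail_cons, bf_add_right, bf_smul_right,
      hr1, hr2, hr3, hr4]
    ring
  rw [hr] at hr0
  exact sub_eq_zero.1 hr0

/-- An alternating operator on `F⁴` which is scalar on an isotropic plane `⟨x, y⟩`. -/
theorem struct4 (J : Matrix (Fin 4) (Fin 4) F) (halt : ∀ x, bf J x x = 0) (hdet : J.det ≠ 0)
    (x y : Fin 4 → F) (hx : x ≠ 0) (hind : ∀ c : F, y ≠ c • x) (hxy : bf J x y = 0)
    (S : Matrix (Fin 4) (Fin 4) F) (hS0 : ∀ u, bf J u (S *ᵥ u) = 0) (s : F)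
    (hSx : S *ᵥ x = s • x) (hSy : S *ᵥ y = s • y) :
    ∃ β : F, S = s • (1 : Matrix (Fin 4) (Fin 4) F) + β • dm J x y := by
  obtain ⟨x', y', hE⟩ := symp_basis J halt hdet x y hx hind hxy
  obtain ⟨S', hS'⟩ : ∃ S' : Matrix (Fin 4) (Fin 4) F, S' = S - s • (1 : Matrix (Fin 4) (Fin 4) F) :=
    ⟨_, rfl⟩
  have hS'v : ∀ v, S' *ᵥ v = S *ᵥ v - s • v := by
    intro v
    rw [hS', Matrix.sub_mulVec, Matrix.smul_mulVec, Matrix.one_mulVec]
  have h0 : ∀ u, bf J u (S' *ᵥ u) = 0 := by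
    intro u
    rw [hS'v, bf_sub_right, bf_smul_right, hS0, halt]
    ring
  have hself : ∀ u v, bf J (S' *ᵥ u) v = bf J u (S' *ᵥ v) := by
    intro u v
    have h1 := h0 (u + v)
    rw [Matrix.mulVec_add, bf_add_left, bf_add_right, bf_add_right, h0 u, h0 v] at h1
    rw [bf_swap J halt (S' *ᵥ u) v]
    linear_combination -h1
  have hx0 : S' *ᵥ x = 0 := by rw [hS'v, hSx, sub_self]
  have hy0 : S' *ᵥ y = 0 := by rw [hS'v, hSy, sub_self]
  have hform : ∀ v, S' *ᵥ v = bf J v (S' *ᵥ x') • x + bf J v (S' *ᵥ y') • y := by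
    intro v
    have h1 := hE (S' *ᵥ v)
    have e1 : bf J (S' *ᵥ v) x = 0 := by rw [hself, hx0, bf_zero_right]
    have e2 : bf J (S' *ᵥ v) y = 0 := by rw [hself, hy0, bf_zero_right]
    rw [e1, e2, zero_smul, sub_zero, zero_smul, sub_zero, hself v x', hself v y'] at h1
    exact h1
  obtain ⟨β, hβ⟩ : ∃ β : F, β = bf J (S' *ᵥ x') y' := ⟨_, rfl⟩
  have hx' : S' *ᵥ x' = β • y := by
    have h1 := hform x'
    rw [h0 x', zero_smul, zero_add, ← hself x' y', ← hβ] at h1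
    exact h1
  have hy' : S' *ᵥ y' = (-β) • x := by
    have h1 := hform y'
    rw [h0 y', zero_smul, add_zero, bf_swap J halt y' (S' *ᵥ x'), ← hβ] at h1
    exact h1
  refine ⟨β, ?_⟩
  have hS'D : S' = β • dm J x y := by
    apply ext_mulVec'
    intro v
    rw [hform v, hx', hy', Matrix.smul_mulVec, dm_mulVec, bf_smul_right, bf_smul_right, smul_sub,
      smul_smul, smul_smul, neg_mul, neg_smul, sub_eq_add_neg]
  rw [← hS'D, hS']
  abel

end General

section Tensor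

variable {F : Type*} [Field F] {a b : ℕ}
variable {J₁ : Matrix (Fin a) (Fin a) F} {J₂ : Matrix (Fin b) (Fin b) F}
  {Q : (Fin a × Fin b → F) → F}

/-- An isometry of the shape `Gm d w D S` (`D` self-adjoint alternating) has `S` alternating. -/
theorem gm_alt (hT : TQ J₁ J₂ Q) (d w : Fin b → F) (hd : d ≠ 0) (hwd : bf J₂ w d = 0)
    (D S : Matrix (Fin a) (Fin a) F) (hD : adj J₁ D = D) (hDalt : ∀ u, bf J₁ u (D *ᵥ u) = 0)
    (g : GL (Fin a × Fin b) F) (hg : g ∈ isometryGroup F Q)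
    (hgm : (g : Matrix (Fin a × Fin b) (Fin a × Fin b) F) = Gm J₁ J₂ d w D S) :
    ∀ u, bf J₁ u (S *ᵥ u) = 0 := by
  intro u
  have hiso := (Helper97.Gen.mem_isometryGroup_iff Q g).mp hg
  obtain ⟨e, he⟩ := exists_bf_eq_one J₂ hT.det₂ d hd
  have hed : bf J₂ e d = -1 := by rw [bf_swap J₂ hT.alt₂, he]
  have hG : Gm J₁ J₂ d w D S = 1 + D ⊗ₖ (rk J₂ w d + rk J₂ d w) + S ⊗ₖ rk J₂ d d := by
    rw [Gm, hD, Matrix.kronecker_add, add_assoc 1]
  have h1 := hiso (pt u e)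
  rw [hgm, hG, Matrix.add_mulVec, Matrix.add_mulVec, Matrix.one_mulVec, kron_mulVec_pt,
    kron_mulVec_pt] at h1
  have hp12 := hT.polar (pt u e) (pt (D *ᵥ u) ((rk J₂ w d + rk J₂ d w) *ᵥ e))
  have hp123 := hT.polar (pt u e + pt (D *ᵥ u) ((rk J₂ w d + rk J₂ d w) *ᵥ e))
    (pt (S *ᵥ u) (rk J₂ d d *ᵥ e))
  rw [QuadraticMap.polar, bf_kron_pt, hT.pure, hT.pure, hDalt u, zero_mul] at hp12
  rw [QuadraticMap.polar, bf_add_left, bf_kron_pt, bf_kron_pt, h1, hT.pure, hT.pure] at hp123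
  have e2 : bf J₂ ((rk J₂ w d + rk J₂ d w) *ᵥ e) (rk J₂ d d *ᵥ e) = 0 := by
    rw [Matrix.add_mulVec, rk_mulVec, rk_mulVec, rk_mulVec, bf_smul_right, bf_add_left,
      bf_smul_left, bf_smul_left, hwd, hT.alt₂ d]
    ring
  have e3 : bf J₂ e (rk J₂ d d *ᵥ e) = 1 := by
    rw [rk_mulVec, bf_smul_right, hed]
    ring
  rw [e2, e3, mul_zero, add_zero, mul_one] at hp123
  linear_combination -hp123 - hp12

/-- Under (NSW), every non-zero `z ⊥ x, y` is an eigenvector of `S`. -/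
theorem gm_eig (hT : TQ J₁ J₂ Q) (M : Subgroup (GL (Fin a × Fin b) F)) (hR : HasR J₁ J₂ M)
    (hW : NSW J₂ M) (d w : Fin b → F) (hd : d ≠ 0) (hwd : bf J₂ w d = 0)
    (x y : Fin a → F) (S : Matrix (Fin a) (Fin a) F) (hS0 : ∀ u, bf J₁ u (S *ᵥ u) = 0)
    (h : InM M (Gm J₁ J₂ d w (dm J₁ x y) S))
    (z : Fin a → F) (hz : z ≠ 0) (hxz : bf J₁ x z = 0) (hyz : bf J₁ y z = 0) :
    ∃ c : F, S *ᵥ z = c • z := by
  have halt := hT.alt₁
  have hself : ∀ u v, bf J₁ (S *ᵥ u) v = bf J₁ u (S *ᵥ v) := by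
    intro u v
    have h1 := hS0 (u + v)
    rw [Matrix.mulVec_add, bf_add_left, bf_add_right, bf_add_right, hS0 u, hS0 v] at h1
    rw [bf_swap J₁ halt (S *ᵥ u) v]
    linear_combination -h1
  have hA : ∀ u, bf J₁ (S *ᵥ u) u = 0 := by
    intro u
    rw [bf_swap J₁ halt, hS0, neg_zero]
  have htx : tv J₁ z 1 *ᵥ x = x := by rw [tv_mulVec, hxz]; simp
  have hty : tv J₁ z 1 *ᵥ y = y := by rw [tv_mulVec, hyz]; simp
  have hc := Helper99.T5GMB.gm_conjU hT d w z 1 (dm J₁ x y) S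
  rw [T5T2A.tv_conj_dm J₁ halt, htx, hty] at hc
  have h1 : InM M (Gm J₁ J₂ d w (dm J₁ x y) (tv J₁ z 1 * S * tv J₁ z (-1))) := by
    rw [← hc]
    exact ((hR.2 z 1).mul h).mul (hR.2 z (-1))
  have hinv : InM M (Gm J₁ J₂ d w (-dm J₁ x y) (-S)) := by
    apply h.inv
    rw [Helper29.T5GMA.gm_mul hT d w hwd, add_neg_cancel, add_neg_cancel]
    simp [Gm, adj]
  have h2 := h1.mul hinv
  rw [Helper29.T5GMA.gm_mul hT d w hwd, add_neg_cancel] at h2
  have h3 : Gm J₁ J₂ d w 0 (tv J₁ z 1 * S * tv J₁ z (-1) + -S)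
      = 1 + (tv J₁ z 1 * S * tv J₁ z (-1) - S) ⊗ₖ rk J₂ d d := by
    simp [Gm, adj, sub_eq_add_neg]
  rw [h3, Helper51.T5L6P.l6p J₁ S hself hA z 1, one_smul] at h2
  obtain ⟨κ, hκ⟩ := hW _ d hd h2
  have h4 := congrArg (fun A => A *ᵥ z) hκ
  simp only [dm_mulVec, Matrix.smul_mulVec, Matrix.one_mulVec] at h4
  rw [hS0 z, halt z, zero_smul, zero_smul, sub_zero] at h4
  have hκ0 : κ = 0 := by
    rcases smul_eq_zero.1 h4.symm with h5 | h5
    · exact h5
    · exact absurd h5 hz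
  obtain ⟨v, hv⟩ := exists_bf_eq_one J₁ hT.det₁ z hz
  have hvz : bf J₁ v z = -1 := by rw [bf_swap J₁ halt, hv]
  have h6 := congrArg (fun A => A *ᵥ v) hκ
  simp only [dm_mulVec, Matrix.smul_mulVec, Matrix.one_mulVec] at h6
  rw [hκ0, zero_smul, hvz, neg_smul, one_smul, sub_neg_eq_add] at h6
  exact ⟨-bf J₁ v (S *ᵥ z), by rw [neg_smul]; exact eq_neg_of_add_eq_zero_right h6⟩

/-- PIECE L6A -/
theorem l6a (hT : TQ J₁ J₂ Q) (ha : a = 4) (h2 : (2 : F) = 0)
    (M : Subgroup (GL (Fin a × Fin b) F)) (hMO : M ≤ isometryGroup F Q) (hR : HasR J₁ J₂ M)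
    (hW : NSW J₂ M) (d w : Fin b → F) (hd : d ≠ 0) (hwd : bf J₂ w d = 0)
    (x y : Fin a → F) (hx : x ≠ 0) (hind : ∀ c : F, y ≠ c • x) (hxy : bf J₁ x y = 0)
    (S : Matrix (Fin a) (Fin a) F) (h : InM M (Gm J₁ J₂ d w (dm J₁ x y) S)) :
    ∃ β : F, InM M (1 + dm J₁ x y ⊗ₖ (rk J₂ w d + rk J₂ d w + β • rk J₂ d d)) := by
  subst ha
  have halt := hT.alt₁
  have hD : adj J₁ (dm J₁ x y) = dm J₁ x y := adj_dm J₁ halt hT.det₁ x y
  have hDalt : ∀ u, bf J₁ u (dm J₁ x y *ᵥ u) = 0 := by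
    intro u
    rw [dm_mulVec, bf_sub_right, bf_smul_right, bf_smul_right]
    ring
  obtain ⟨g, hgM, hg⟩ := h
  have hS0 := gm_alt hT d w hd hwd _ S hD hDalt g (hMO hgM) hg
  have h : InM M (Gm J₁ J₂ d w (dm J₁ x y) S) := ⟨g, hgM, hg⟩
  have hy0 : y ≠ 0 := fun h0 => hind 0 (by rw [h0, zero_smul])
  have hyx : bf J₁ y x = 0 := by rw [bf_swap J₁ halt, hxy, neg_zero]
  obtain ⟨s₁, hs₁⟩ := gm_eig hT M hR hW d w hd hwd x y S hS0 h x hx (halt x) hyx
  obtain ⟨s₂, hs₂⟩ := gm_eig hT M hR hW d w hd hwd x y S hS0 h y hy0 hxy (halt y)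
  have hxy0 : x + y ≠ 0 := by
    intro h0
    apply hind (-1)
    rw [neg_one_smul]
    exact eq_neg_of_add_eq_zero_right h0
  obtain ⟨s₃, hs₃⟩ := gm_eig hT M hR hW d w hd hwd x y S hS0 h (x + y) hxy0
    (by rw [bf_add_right, halt, hxy, add_zero]) (by rw [bf_add_right, hyx, halt, add_zero])
  have h5 : (s₁ - s₃) • x + (s₂ - s₃) • y = 0 := by
    have h6 := hs₃
    rw [Matrix.mulVec_add, hs₁, hs₂, smul_add] at h6
    rw [sub_smul, sub_smul,
      show s₁ • x - s₃ • x + (s₂ • y - s₃ • y) = (s₁ • x + s₂ • y) - (s₃ • x + s₃ • y) by abel,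
      h6, sub_self]
  have hs23 : s₂ = s₃ := by
    by_contra hne
    have hne' : s₂ - s₃ ≠ 0 := sub_ne_zero.2 hne
    apply hind (-(s₁ - s₃) / (s₂ - s₃))
    have h6 : (s₂ - s₃) • y = (-(s₁ - s₃)) • x := by
      rw [neg_smul]
      exact eq_neg_of_add_eq_zero_right h5
    calc y = (s₂ - s₃)⁻¹ • ((s₂ - s₃) • y) := by
          rw [smul_smul, inv_mul_cancel₀ hne', one_smul]
      _ = (-(s₁ - s₃) / (s₂ - s₃)) • x := by
          rw [h6, smul_smul]
          congr 1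
          field_simp
  have hs13 : s₁ = s₃ := by
    rw [hs23, sub_self, zero_smul, add_zero] at h5
    rcases smul_eq_zero.1 h5 with h6 | h6
    · exact sub_eq_zero.1 h6
    · exact absurd h6 hx
  rw [hs23, ← hs13] at hs₂
  obtain ⟨β, hβ⟩ := struct4 J₁ halt hT.det₁ x y hx hind hxy S hS0 s₁ hs₁ hs₂
  refine ⟨β, ?_⟩
  have hdw : bf J₂ d w = 0 := by rw [bf_swap J₂ hT.alt₂, hwd, neg_zero]
  have hRR : rk J₂ d d * rk J₂ d d = 0 := by rw [rk_mul_rk, hT.alt₂ d, zero_smul]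
  have hνR : (rk J₂ w d + rk J₂ d w + β • rk J₂ d d) * rk J₂ d d = 0 := by
    rw [Matrix.add_mul, Matrix.add_mul, Matrix.smul_mul, hRR, rk_mul_rk, rk_mul_rk, hT.alt₂ d,
      hdw]
    simp
  have hNE : (dm J₁ x y ⊗ₖ (rk J₂ w d + rk J₂ d w + β • rk J₂ d d))
      * ((1 : Matrix (Fin 4) (Fin 4) F) ⊗ₖ rk J₂ d d) = 0 := by
    rw [← Matrix.mul_kronecker_mul, hνR, Matrix.kronecker_zero]
  have hEE : ((1 : Matrix (Fin 4) (Fin 4) F) ⊗ₖ rk J₂ d d)
      * ((1 : Matrix (Fin 4) (Fin 4) F) ⊗ₖ rk J₂ d d) = 0 := by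
    rw [← Matrix.mul_kronecker_mul, hRR, Matrix.kronecker_zero]
  have hG : Gm J₁ J₂ d w (dm J₁ x y) S
      = 1 + dm J₁ x y ⊗ₖ (rk J₂ w d + rk J₂ d w + β • rk J₂ d d)
        + s₁ • ((1 : Matrix (Fin 4) (Fin 4) F) ⊗ₖ rk J₂ d d) := by
    rw [Gm, hD]
    conv_lhs => rw [hβ]
    ext ⟨i, k⟩ ⟨j, l⟩
    simp only [Matrix.add_apply, Matrix.kronecker_apply, Matrix.smul_apply, smul_eq_mul]
    ring
  have hTv : (1 : Matrix (Fin 4) (Fin 4) F) ⊗ₖ tv J₂ d (-s₁)
      = 1 + (-s₁) • ((1 : Matrix (Fin 4) (Fin 4) F) ⊗ₖ rk J₂ d d) := by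
    rw [tv, Matrix.kronecker_add, Matrix.one_kronecker_one, Matrix.kronecker_smul]
  have hfin : Gm J₁ J₂ d w (dm J₁ x y) S * ((1 : Matrix (Fin 4) (Fin 4) F) ⊗ₖ tv J₂ d (-s₁))
      = 1 + dm J₁ x y ⊗ₖ (rk J₂ w d + rk J₂ d w + β • rk J₂ d d) := by
    rw [hG, hTv]
    simp only [add_mul, mul_add, one_mul, mul_one, smul_mul_assoc, mul_smul_comm, hNE, hEE,
      smul_zero, add_zero]
    rw [neg_smul]
    abel
  rw [← hfin]
  exact h.mul (hR.1 d (-s₁))

end Tensor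

end Cfsg.Agent.Helper67.T5L6A
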