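import Mathlib

/-!
# CALL S0435 piece TI6a: counting the pairs `(r, S)`, `r ∈ R ∩ S`
-/

set_option autoImplicit false
set_option linter.unusedSectionVars false

namespace Cfsg.Agent.Helper67

variable {G : Type*} [Group G] [Finite G]

-- PIECE TI6a
theorem u7920_pairs_count (R : Sylow 3 G) (hR : Nat.card ↥(R : Subgroup G) = 9)
    (h55 : Nat.card (Sylow 3 G) = 55)
    (hF : ∀ d ∈ (R : Subgroup G), d ≠ 1 →
      Nat.card {S : Sylow 3 G // d ∈ (S : Subgroup G)} = 1 ∨
      Nat.card {S : Sylow 3 G // d ∈ (S : Subgroup G)} = 4) :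
    Nat.card {p : ↥(R : Subgroup G) × Sylow 3 G // (p.1 : G) ∈ (p.2 : Subgroup G)} =
      63 + 3 * Nat.card {d : G // d ∈ (R : Subgroup G) ∧
        Nat.card {S : Sylow 3 G // d ∈ (S : Subgroup G)} = 4} := by
  classical
  have : Fintype ↥(R : Subgroup G) := Fintype.ofFinite _
  obtain ⟨f, hf⟩ : ∃ f : ↥(R : Subgroup G) → ℕ,
      ∀ r, f r = Nat.card {S : Sylow 3 G // (r : G) ∈ (S : Subgroup G)} := ⟨_, fun _ => rfl⟩
  have h1 : Nat.card {p : ↥(R : Subgroup G) × Sylow 3 G // (p.1 : G) ∈ (p.2 : Subgroup G)}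
      = ∑ r : ↥(R : Subgroup G), f r := by
    rw [Nat.card_congr (Equiv.subtypeProdEquivSigmaSubtype
      (fun (r : ↥(R : Subgroup G)) (S : Sylow 3 G) => (r : G) ∈ (S : Subgroup G))),
      Nat.card_sigma]
    exact Finset.sum_congr rfl (fun r _ => (hf r).symm)
  have hf1 : f 1 = 55 := by
    rw [hf, ← h55]
    exact Nat.card_congr (Equiv.subtypeUnivEquiv (fun S => by
      rw [OneMemClass.coe_one]; exact one_mem _))
  have hfr : ∀ r : ↥(R : Subgroup G), r ≠ 1 → f r = 1 + 3 * (if f r = 4 then 1 else 0) := by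
    intro r hr
    have hr1 : (r : G) ≠ 1 := fun h => hr (Subtype.ext h)
    rcases hF (r : G) r.2 hr1 with h | h
    · rw [hf, h]
      norm_num
    · rw [hf, h]
      rfl
  have hcard9 : Fintype.card ↥(R : Subgroup G) = 9 := by
    rw [← Nat.card_eq_fintype_card, hR]
  have h2 : ∑ r : ↥(R : Subgroup G), f r
      = 63 + 3 * (Finset.univ.filter (fun r : ↥(R : Subgroup G) => f r = 4)).card := by
    rw [← Finset.add_sum_erase Finset.univ f (Finset.mem_univ (1 : ↥(R : Subgroup G))), hf1,
      Finset.sum_congr rfl (fun r hr => hfr r (Finset.ne_of_mem_erase hr)),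
      Finset.sum_add_distrib, Finset.sum_const, ← Finset.mul_sum, ← Finset.card_filter,
      Finset.card_erase_of_mem (Finset.mem_univ _), Finset.card_univ, hcard9]
    have h3 : (Finset.univ.erase (1 : ↥(R : Subgroup G))).filter (fun r => f r = 4)
        = Finset.univ.filter (fun r : ↥(R : Subgroup G) => f r = 4) := by
      ext r
      simp only [Finset.mem_filter, Finset.mem_erase, Finset.mem_univ, and_true, true_and,
        and_iff_right_iff_imp]
      intro h4 h5
      rw [h5, hf1] at h4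
      omega
    rw [h3]
    simp
    omega
  have h4 : Nat.card {d : G // d ∈ (R : Subgroup G) ∧
        Nat.card {S : Sylow 3 G // d ∈ (S : Subgroup G)} = 4}
      = (Finset.univ.filter (fun r : ↥(R : Subgroup G) => f r = 4)).card := by
    rw [← Nat.card_congr (Equiv.subtypeSubtypeEquivSubtypeInter
      (fun d : G => d ∈ (R : Subgroup G))
      (fun d : G => Nat.card {S : Sylow 3 G // d ∈ (S : Subgroup G)} = 4)),
      Nat.card_eq_fintype_card, Fintype.card_subtype]
    congr 1
    ext r
    simp only [Finset.mem_filter, Finset.mem_univ, true_and, hf]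
  rw [h1, h2, h4]

end Cfsg.Agent.Helper67
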